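import Cfsg.Agent.TwoAut.Anisotropic
import Cfsg.Agent.PGroup.Critical
import Cfsg.Agent.PGroup.ClassTwo
import Mathlib

/-!
# Automorphisms of 2-groups with at most four solutions of `x ^ 2 = 1`
-/

set_option autoImplicit false
set_option linter.all false

namespace Cfsg.Agent.TwoAut

open scoped commutatorElement

universe u

variable {C : Type u} [Group C]

theorem mul_sq_classTwo (hc : commutator C ≤ Subgroup.center C) (x y : C) :
    (x * y) ^ 2 = x ^ 2 * y ^ 2 * ⁅y, x⁆ := by
  have h := Cfsg.Agent.PGroup.mul_pow_of_commutatorElement (x := x) (y := y)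
    (hc (Subgroup.commutator_mem_commutator (Subgroup.mem_top y) (Subgroup.mem_top x))) 2
  simpa using h

theorem commutator_sq (hc : commutator C ≤ Subgroup.center C)
    (hsq : ∀ x : C, x ^ 2 ∈ Subgroup.center C) (x y : C) : ⁅x, y⁆ * ⁅x, y⁆ = 1 := by
  have h := Cfsg.Agent.PGroup.commutatorElement_pow_left (x := x) (y := y)
    (hc (Subgroup.commutator_mem_commutator (Subgroup.mem_top x) (Subgroup.mem_top y))) 2
  rw [← sq, ← h, commutatorElement_eq_one_iff_mul_comm]
  exact (Subgroup.mem_center_iff.1 (hsq x) y).symm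

/-- An automorphism of odd order fixing all elements of order dividing four is trivial. -/
theorem eq_one_of_fix_four [Finite C] (h2 : IsPGroup 2 C) (hc : commutator C ≤ Subgroup.center C)
    (hsq : ∀ x : C, x ^ 2 ∈ Subgroup.center C) (τ : MulAut C) (hτ : (orderOf τ).Coprime 2)
    (hfix : ∀ x : C, x ^ 4 = 1 → τ x = x) : τ = 1 := by
  refine MulEquiv.ext fun x => ?_
  obtain ⟨k, hk⟩ := h2 x
  induction k generalizing x with
  | zero => rw [pow_zero, pow_one] at hk; rw [hk]; exact map_one τ
  | succ k ih =>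
    have hfix2 : τ (x ^ 2) = x ^ 2 := ih (x ^ 2) (by rw [← pow_mul, ← pow_succ']; exact hk)
    set c := x⁻¹ * τ x with hcdef
    refine Cfsg.Agent.PGroup.apply_eq_of_fixed_commutator h2 τ hτ (hfix c ?_)
    have h1 : (x * c) ^ 2 = x ^ 2 := by rw [hcdef, mul_inv_cancel_left, ← map_pow, hfix2]
    rw [mul_sq_classTwo hc, mul_assoc, mul_eq_left] at h1
    have h2' : c ^ 2 = ⁅c, x⁆⁻¹ := eq_inv_of_mul_eq_one_left h1
    rw [show 4 = 2 * 2 from rfl, pow_mul, h2', inv_pow, sq, commutator_sq hc hsq, inv_one]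

/-- Odd order part. -/
theorem exists_odd_power {G : Type*} [Group G] [Finite G] (g : G) :
    ∃ a : ℕ, (orderOf (g ^ 2 ^ a)).Coprime 2 := by
  obtain ⟨a, m, hm, hd⟩ := Nat.exists_eq_two_pow_mul_odd (orderOf_pos g).ne'
  refine ⟨a, (hm.of_dvd_nat (orderOf_dvd_of_pow_eq_one ?_)).coprime_two_right⟩
  rw [← pow_mul, ← hd, pow_orderOf_eq_one]

theorem finite_mulAut (G : Type*) [Group G] [Finite G] : Finite (MulAut G) :=
  Finite.of_injective (fun σ : MulAut G => (σ : G → G)) DFunLike.coe_injective

theorem isSolvable_of_isPGroup_two {G : Type*} [Group G] [Finite G] (h : IsPGroup 2 G) :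
    Group.IsSolvable G := by
  haveI : Fact (Nat.Prime 2) := ⟨Nat.prime_two⟩
  haveI := h.isNilpotent
  infer_instance

set_option maxHeartbeats 1000000 in
theorem solvable_mulAut_classTwo [Finite C] (h2 : IsPGroup 2 C)
    (hc : commutator C ≤ Subgroup.center C) (hsq : ∀ x : C, x ^ 2 ∈ Subgroup.center C)
    (h4 : Nat.card {x : C // x ^ 2 = 1} ≤ 4) : Group.IsSolvable (MulAut C) := by
  classical
  haveI := Fintype.ofFinite C
  haveI := finite_mulAut C
  have hS : ∀ σ ∈ (⊤ : Subgroup (MulAut C)), ∀ x ∈ {x : C | x ^ 2 = 1}, σ x ∈ {x : C | x ^ 2 = 1} :=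
    fun σ _ x hx => by
      show σ x ^ 2 = 1
      rw [← map_pow, hx, map_one]
  let ρ : MulAut C →* Equiv.Perm {x : C | x ^ 2 = 1} :=
    (permOn ⊤ hS).comp (Subgroup.topEquiv (G := MulAut C)).symm.toMonoidHom
  refine solvable_of_hom ρ (solvable_perm_small h4) ?_
  have hker : ∀ σ ∈ ρ.ker, ∀ x : C, x ^ 2 = 1 → σ x = x := fun σ hσ x hx =>
    congrArg Subtype.val (DFunLike.congr_fun (MonoidHom.mem_ker.1 hσ) (⟨x, hx⟩ : {x : C | x ^ 2 = 1}))
  -- the elements of order dividing four
  have hmul4 : ∀ x y : C, x ^ 4 = 1 → y ^ 4 = 1 → (x * y) ^ 4 = 1 := by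
    intro x y hx hy
    have hz : ⁅y, x⁆ ∈ Subgroup.center C :=
      hc (Subgroup.commutator_mem_commutator (Subgroup.mem_top y) (Subgroup.mem_top x))
    have c1 : Commute (x ^ 2 * y ^ 2) ⁅y, x⁆ := (Subgroup.mem_center_iff.1 hz _)
    have c2 : Commute (x ^ 2) (y ^ 2) := Subgroup.mem_center_iff.1 (hsq y) _
    rw [show 4 = 2 * 2 from rfl, pow_mul, mul_sq_classTwo hc, c1.mul_pow, c2.mul_pow, ← pow_mul, ← pow_mul,
      hx, hy, sq, commutator_sq hc hsq, mul_one, mul_one]
  let W : Subgroup C :=
    { carrier := {x | x ^ 4 = 1}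
      one_mem' := one_pow 4
      mul_mem' := fun hx hy => hmul4 _ _ hx hy
      inv_mem' := fun {x} hx => by show x⁻¹ ^ 4 = 1; rw [inv_pow, hx, inv_one] }
  have hV : ∀ x y : C, x ^ 2 = 1 → y ^ 2 = 1 → (x * y) ^ 2 = 1 := by
    intro x y hx hy
    rw [mul_sq_classTwo hc, hx, hy, one_mul, one_mul]
    by_contra hne
    have hxy : ⁅y, x⁆ ≠ 1 := hne
    have ncom : ¬ Commute x y := fun e => hxy (commutatorElement_eq_one_iff_mul_comm.2 e.symm.eq)
    -- five square roots of one
    set z := ⁅y, x⁆ with hz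
    have hzc : z ∈ Subgroup.center C :=
      hc (Subgroup.commutator_mem_commutator (Subgroup.mem_top y) (Subgroup.mem_top x))
    have hz2 : z ^ 2 = 1 := by rw [sq]; exact commutator_sq hc hsq y x
    have hxz : (x * z) ^ 2 = 1 := by
      rw [Commute.mul_pow (Subgroup.mem_center_iff.1 hzc x) 2, hx, hz2, one_mul]
    have hcxz : Commute x z := Subgroup.mem_center_iff.1 hzc x
    have hcxxz : Commute x (x * z) := (Commute.refl x).mul_right hcxz
    have key : ∀ w : C, w ∈ ({1, x, z, x * z} : Finset C) → Commute x w := by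
      intro w hw
      simp only [Finset.mem_insert, Finset.mem_singleton] at hw
      rcases hw with rfl | rfl | rfl | rfl
      exacts [Commute.one_right _, Commute.refl _, hcxz, hcxxz]
    have hz1 : z ≠ 1 := hxy
    have hx1 : x ≠ 1 := fun e => ncom (e ▸ Commute.one_left y)
    have hxz' : x ≠ z := fun e => ncom ((show Commute y x from e ▸ Subgroup.mem_center_iff.1 hzc y).symm)
    have hxz1 : x * z ≠ 1 := fun e => hxz' (by
      rw [eq_inv_of_mul_eq_one_left e]
      exact inv_eq_of_mul_eq_one_right (by rw [← sq, hz2]))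
    have hsub : ({y, 1, x, z, x * z} : Finset C) ⊆ Finset.univ.image (Subtype.val : {x : C // x ^ 2 = 1} → C) := by
      intro w hw
      simp only [Finset.mem_insert, Finset.mem_singleton] at hw
      simp only [Finset.mem_image, Finset.mem_univ, true_and]
      rcases hw with rfl | rfl | rfl | rfl | rfl
      exacts [⟨⟨_, hy⟩, rfl⟩, ⟨⟨_, one_pow 2⟩, rfl⟩, ⟨⟨_, hx⟩, rfl⟩, ⟨⟨_, hz2⟩, rfl⟩, ⟨⟨_, hxz⟩, rfl⟩]
    have h5 : ({y, 1, x, z, x * z} : Finset C).card = 5 := by
      rw [Finset.card_insert_of_notMem (fun hmem => ncom (key y hmem))]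
      simp [hz1, Ne.symm hz1, Ne.symm hx1, hxz', Ne.symm hxz1, hx1]
    have := (Finset.card_le_card hsub).trans Finset.card_image_le
    rw [h5, Finset.card_univ, ← Nat.card_eq_fintype_card] at this
    omega
  let V : Subgroup W :=
    { carrier := {x | (x : C) ^ 2 = 1}
      one_mem' := one_pow 2
      mul_mem' := fun hx hy => hV _ _ hx hy
      inv_mem' := fun {x} hx => by
        show ((x : C)⁻¹) ^ 2 = 1
        rw [inv_pow, hx, inv_one] }
  haveI : V.Normal := ⟨fun v hv g => by
    show ((g : C) * v * (g : C)⁻¹) ^ 2 = 1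
    rw [conj_pow, hv]; group⟩
  letI : CommGroup (W ⧸ V) :=
    { (inferInstance : Group (W ⧸ V)) with
      mul_comm := fun a b => QuotientGroup.induction_on a fun x => QuotientGroup.induction_on b fun y => by
        rw [← QuotientGroup.mk_mul, ← QuotientGroup.mk_mul, QuotientGroup.eq]
        show ((x * y : C)⁻¹ * ((y : C) * x)) ^ 2 = 1
        rw [show (x * y : C)⁻¹ * ((y : C) * x) = ⁅(y : C)⁻¹, (x : C)⁻¹⁆ by
          rw [commutatorElement_def]; group]
        rw [sq]; exact commutator_sq hc hsq _ _ }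
  let A : Subgroup C :=
    { carrier := {x | x ∈ Subgroup.center C ∧ x ^ 2 = 1}
      one_mem' := ⟨one_mem _, one_pow 2⟩
      mul_mem' := fun hx hy => ⟨mul_mem hx.1 hy.1, hV _ _ hx.2 hy.2⟩
      inv_mem' := fun {x} hx => ⟨inv_mem hx.1, by rw [inv_pow, hx.2, inv_one]⟩ }
  letI : CommGroup A :=
    { (inferInstance : Group A) with
      mul_comm := fun a b => Subtype.ext (Subgroup.mem_center_iff.1 b.2.1 a) }
  have hW : ∀ w : W, ((w : C) ^ 2) ^ 2 = 1 := fun w => by rw [← pow_mul]; exact w.2
  let f : W → A := fun w => ⟨(w : C) ^ 2, hsq _, hW w⟩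
  have hvw : ∀ (w : W) (v : W), v ∈ V → f (w * v) = f w := by
    intro w v hv
    apply Subtype.ext
    show ((w : C) * v) ^ 2 = (w : C) ^ 2
    rw [mul_sq_classTwo hc, hv, mul_one, mul_eq_left]
    by_contra hne
    by_cases hw : (w : C) ^ 2 = 1
    · have := hV w v hw hv
      rw [mul_sq_classTwo hc, hw, hv, one_mul, one_mul] at this
      exact hne this
    set k := ⁅(v : C), (w : C)⁆ with hk
    have hkc : k ∈ Subgroup.center C :=
      hc (Subgroup.commutator_mem_commutator (Subgroup.mem_top (v : C)) (Subgroup.mem_top (w : C)))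
    have hk2 : k ^ 2 = 1 := by rw [sq]; exact commutator_sq hc hsq _ _
    have hvn : (v : C) ∉ Subgroup.center C := fun e =>
      hne (commutatorElement_eq_one_iff_mul_comm.2 (Subgroup.mem_center_iff.1 e w).symm)
    by_cases hkw : k = (w : C) ^ 2
    · -- then `w * v` is a further square root of one
      have hwv : ((w : C) * v) ^ 2 = 1 := by
        rw [mul_sq_classTwo hc, hv, mul_one, ← hk, hkw, ← sq, hW]
      have := hV _ _ hwv hv
      rw [mul_assoc, ← sq, hv, mul_one] at this
      exact hw this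
    · -- five square roots of one
      have hvk : ((v : C) * k) ^ 2 = 1 := by
        rw [Commute.mul_pow (Subgroup.mem_center_iff.1 hkc v) 2, hv, hk2, one_mul]
      have hw4 := hW w
      have hsub : ({(v : C), v * k, 1, k, (w : C) ^ 2} : Finset C) ⊆
          Finset.univ.image (Subtype.val : {x : C // x ^ 2 = 1} → C) := by
        intro u hu
        simp only [Finset.mem_insert, Finset.mem_singleton] at hu
        simp only [Finset.mem_image, Finset.mem_univ, true_and]
        rcases hu with rfl | rfl | rfl | rfl | rfl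
        exacts [⟨⟨_, hv⟩, rfl⟩, ⟨⟨_, hvk⟩, rfl⟩, ⟨⟨_, one_pow 2⟩, rfl⟩, ⟨⟨_, hk2⟩, rfl⟩, ⟨⟨_, hw4⟩, rfl⟩]
      have hvkn : (v : C) * k ∉ Subgroup.center C := fun e =>
        hvn (by simpa using mul_mem e (inv_mem hkc))
      have n1 : ∀ u ∈ ({1, k, (w : C) ^ 2} : Finset C), u ∈ Subgroup.center C := by
        intro u hu
        simp only [Finset.mem_insert, Finset.mem_singleton] at hu
        rcases hu with rfl | rfl | rfl
        exacts [one_mem _, hkc, hsq _]
      have h5 : ({(v : C), v * k, 1, k, (w : C) ^ 2} : Finset C).card = 5 := by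
        rw [Finset.card_insert_of_notMem, Finset.card_insert_of_notMem (fun e => hvkn (n1 _ e))]
        · simp [Ne.symm hne, Ne.symm hw, hkw]
        · intro e
          rcases Finset.mem_insert.1 e with e | e
          · exact hne (mul_eq_left.1 e.symm)
          · exact hvn (n1 _ e)
      have := (Finset.card_le_card hsub).trans Finset.card_image_le
      rw [h5, Finset.card_univ, ← Nat.card_eq_fintype_card] at this
      omega
  let q : W ⧸ V → A := fun e => f e.out
  have hq : ∀ w : W, q (QuotientGroup.mk w) = f w := by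
    intro w
    obtain ⟨v, hv⟩ := QuotientGroup.mk_out_eq_mul V w
    show f _ = _
    rw [hv]; exact hvw w v v.2
  let β : W → W → A := fun x y => ⟨⁅(y : C), (x : C)⁆,
    hc (Subgroup.commutator_mem_commutator (Subgroup.mem_top (y : C)) (Subgroup.mem_top (x : C))),
    by rw [sq]; exact commutator_sq hc hsq _ _⟩
  have hfm : ∀ x y, f (x * y) = f x * f y * β x y := fun x y => Subtype.ext (mul_sq_classTwo hc x y)
  have hβ : ∀ x y z, β (x * y) z = β x z * β y z := fun x y z => Subtype.ext
    (Cfsg.Agent.PGroup.commutatorElement_mul_right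
      (hc (Subgroup.commutator_mem_commutator (Subgroup.mem_top (z : C)) (Subgroup.mem_top (y : C)))))
  have hA2 : ∀ a : A, a * a = 1 := fun a => Subtype.ext (by
    show (a : C) * a = 1
    rw [← sq]; exact a.2.2)
  have hcA : ∀ a b : A, a * (a * b) = b := fun a b => by rw [← mul_assoc, hA2, one_mul]
  have haniso : Aniso q :=
    { sqE := fun e => QuotientGroup.induction_on e fun w => by
        rw [← QuotientGroup.mk_mul, QuotientGroup.eq_one_iff]
        show ((w : C) * w) ^ 2 = 1
        rw [← sq]; exact hW w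
      sqA := hA2
      card_le := le_trans (Nat.card_le_card_of_injective (fun a : A => (⟨(a : C), a.2.2⟩ : {x : C // x ^ 2 = 1}))
        (fun a b e => Subtype.ext (congrArg (fun z : {x : C // x ^ 2 = 1} => (z : C)) e))) h4
      cubic := fun a b c => QuotientGroup.induction_on a fun x => QuotientGroup.induction_on b fun y =>
        QuotientGroup.induction_on c fun z => by
          simp only [← QuotientGroup.mk_mul, hq, hfm, hβ]
          generalize f x = fx
          generalize f y = fy
          generalize f z = fz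
          generalize β x y = bxy
          generalize β x z = bxz
          generalize β y z = byz
          simp only [mul_assoc, mul_comm, mul_left_comm, hA2, hcA, mul_one]
      one := by
        rw [← QuotientGroup.mk_one, hq]
        exact Subtype.ext (one_pow 2)
      eq_one := fun a => QuotientGroup.induction_on a fun w hw => by
        rw [hq] at hw
        rw [QuotientGroup.eq_one_iff]
        exact congrArg Subtype.val hw }
  let res : MulAut C →* MulAut W :=
    { toFun := fun σ =>
        { toFun := fun w => ⟨σ w, by show σ (w : C) ^ 4 = 1; rw [← map_pow]; simp [show (w : C) ^ 4 = 1 from w.2]⟩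
          invFun := fun w => ⟨σ.symm w, by show σ.symm (w : C) ^ 4 = 1; rw [← map_pow]; simp [show (w : C) ^ 4 = 1 from w.2]⟩
          left_inv := fun w => Subtype.ext (σ.symm_apply_apply _)
          right_inv := fun w => Subtype.ext (σ.apply_symm_apply _)
          map_mul' := fun x y => Subtype.ext (map_mul σ _ _) }
      map_one' := by ext; rfl
      map_mul' := fun σ τ => by ext; rfl }
  have hres : ∀ σ (w : W), ((res σ w : W) : C) = σ (w : C) := fun σ w => rfl
  have hmap : ∀ σ : MulAut C, V.map (res σ).toMonoidHom = V := by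
    intro σ
    ext w
    constructor
    · rintro ⟨u, hu, rfl⟩
      show (σ (u : C)) ^ 2 = 1
      rw [← map_pow, show (u : C) ^ 2 = 1 from hu, map_one]
    · intro hw
      refine ⟨(res σ).symm w, ?_, (res σ).apply_symm_apply w⟩
      show (σ.symm (w : C)) ^ 2 = 1
      rw [← map_pow, show (w : C) ^ 2 = 1 from hw, map_one]
  let φ : ρ.ker →* MulAut (W ⧸ V) :=
    MonoidHom.mk' (fun σ => QuotientGroup.congr V V (res σ) (hmap σ)) (fun σ τ =>
      MulEquiv.ext fun e => QuotientGroup.induction_on e fun w => rfl)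
  refine solvable_of_hom φ.rangeRestrict (haniso.isometry_solvable φ.range ?_) ?_
  · rintro _ ⟨σ, rfl⟩ e
    refine QuotientGroup.induction_on e fun w => ?_
    show q (QuotientGroup.mk (res σ w)) = q (QuotientGroup.mk w)
    rw [hq, hq]
    apply Subtype.ext
    show (σ : MulAut C) (w : C) ^ 2 = (w : C) ^ 2
    rw [← map_pow]
    exact hker _ σ.2 _ (hW w)
  · rw [MonoidHom.ker_rangeRestrict]
    refine isSolvable_of_isPGroup_two fun σ => ?_
    have hsq' : ∀ w : C, w ^ 4 = 1 → (((σ : ρ.ker) : MulAut C) ^ 2) w = w := by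
      intro w hw
      let w' : W := ⟨w, hw⟩
      have h1 := DFunLike.congr_fun (MonoidHom.mem_ker.1 σ.2) (QuotientGroup.mk w')
      have h2' : (QuotientGroup.mk (res (σ : ρ.ker) w') : W ⧸ V) = QuotientGroup.mk w' := h1
      rw [eq_comm, QuotientGroup.eq] at h2'
      set s : MulAut C := ((σ : ρ.ker) : MulAut C)
      have hv : (w⁻¹ * s w) ^ 2 = 1 := h2'
      have e1 : s (w⁻¹ * s w) = w⁻¹ * s w := hker _ (σ : ρ.ker).2 _ hv
      rw [Cfsg.Agent.PGroup.mulAut_pow_apply_of_fixed s e1 2, hv, mul_one]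
    obtain ⟨a, ha⟩ := exists_odd_power ((((σ : ρ.ker) : MulAut C)) ^ 2)
    refine ⟨a + 1, Subtype.ext (Subtype.ext ?_)⟩
    show (((σ : ρ.ker) : MulAut C)) ^ 2 ^ (a + 1) = 1
    rw [pow_succ', pow_mul]
    refine eq_one_of_fix_four h2 hc hsq _ ha fun x hx => ?_
    generalize 2 ^ a = k
    induction k with
    | zero => simp
    | succ k ih => rw [pow_succ, MulAut.mul_apply, hsq' x hx, ih]

/-- A 2-group with at most four solutions of `x ^ 2 = 1` has solvable automorphism group. -/
theorem solvable_mulAut {X : Type u} [Group X] [Finite X] (h2 : IsPGroup 2 X)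
    (h4 : Nat.card {x : X // x ^ 2 = 1} ≤ 4) : Group.IsSolvable (MulAut X) := by
  haveI : Fact (Nat.Prime 2) := ⟨Nat.prime_two⟩
  haveI := finite_mulAut X
  obtain ⟨D, hD⟩ := Cfsg.Agent.PGroup.exists_isCriticalSubgroup h2
  haveI := hD.characteristic
  haveI := finite_mulAut D
  let res : MulAut X →* MulAut D :=
    MonoidHom.mk' (fun σ => (σ.subgroupMap D).trans (MulEquiv.subgroupCongr
      (Subgroup.characteristic_iff_map_eq.1 hD.characteristic σ)))
      (fun σ τ => MulEquiv.ext fun x => Subtype.ext rfl)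
  refine solvable_of_hom res (solvable_mulAut_classTwo (h2.to_subgroup D) hD.commutator_le_center
    hD.pow_mem_center ?_) ?_
  · refine le_trans (Nat.card_le_card_of_injective
      (fun x : {x : D // x ^ 2 = 1} => (⟨((x : D) : X), by
        have := congrArg Subtype.val x.2
        simpa using this⟩ : {x : X // x ^ 2 = 1})) ?_) h4
    intro a b e
    exact Subtype.ext (Subtype.ext (congrArg (fun z : {x : X // x ^ 2 = 1} => (z : X)) e))
  · refine isSolvable_of_isPGroup_two fun σ => ?_
    obtain ⟨a, ha⟩ := exists_odd_power (σ : MulAut X)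
    refine ⟨a, Subtype.ext ?_⟩
    show (σ : MulAut X) ^ 2 ^ a = 1
    refine hD.mulAut_eq_one h2 _ ha fun c hc' => ?_
    have h1 : res ((σ : MulAut X) ^ 2 ^ a) = 1 := by rw [map_pow, MonoidHom.mem_ker.1 σ.2, one_pow]
    exact congrArg Subtype.val (DFunLike.congr_fun h1 ⟨c, hc'⟩)

end Cfsg.Agent.TwoAut
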