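import Cfsg.Agent.Linear.Orders
import Mathlib

/-!
# Sylow 2-subgroups of `PSL(3, 4)` recognised as Heisenberg groups
-/

set_option autoImplicit false
set_option linter.all false

namespace Cfsg.Agent.TwoAut

open scoped commutatorElement

universe u

variable (F : Type) [Field F] [Fintype F]

/-- A unitriangular matrix. -/
def utMat (p : F × F × F) : Matrix.SpecialLinearGroup (Fin 3) F :=
  ⟨!![1, p.1, p.2.2; 0, 1, p.2.1; 0, 0, 1], by simp [Matrix.det_fin_three]⟩

theorem utMat_mul (p q : F × F × F) :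
    utMat F p * utMat F q = utMat F (p.1 + q.1, p.2.1 + q.2.1, p.2.2 + q.2.2 + p.1 * q.2.1) := by
  apply Subtype.ext
  show !![1, p.1, p.2.2; 0, 1, p.2.1; 0, 0, 1] * !![1, q.1, q.2.2; 0, 1, q.2.1; 0, 0, 1] =
    (!![1, p.1 + q.1, p.2.2 + q.2.2 + p.1 * q.2.1; 0, 1, p.2.1 + q.2.1; 0, 0, 1] :
      Matrix (Fin 3) (Fin 3) F)
  ext i j
  fin_cases i <;> fin_cases j <;> simp [Matrix.mul_apply, Fin.sum_univ_three] <;> ring

theorem utMat_zero : utMat F (0, 0, 0) = 1 := by
  apply Subtype.ext
  ext i j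
  fin_cases i <;> fin_cases j <;> simp [utMat]

theorem utMat_injective : Function.Injective (utMat F) := by
  rintro ⟨a, b, c⟩ ⟨a', b', c'⟩ h
  have h' := congrArg Subtype.val h
  have e1 := congrFun (congrFun h' 0) 1
  have e2 := congrFun (congrFun h' 1) 2
  have e3 := congrFun (congrFun h' 0) 2
  simp [utMat] at e1 e2 e3
  simp [e1, e2, e3]

/-- The unitriangular group. -/
def utGroup : Subgroup (Matrix.SpecialLinearGroup (Fin 3) F) where
  carrier := Set.range (utMat F)
  one_mem' := ⟨(0, 0, 0), utMat_zero F⟩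
  mul_mem' := by rintro _ _ ⟨p, rfl⟩ ⟨q, rfl⟩; exact ⟨_, (utMat_mul F p q).symm⟩
  inv_mem' := by
    rintro _ ⟨p, rfl⟩
    refine ⟨(-p.1, -p.2.1, -p.2.2 + p.1 * p.2.1), ?_⟩
    apply eq_inv_of_mul_eq_one_right
    rw [utMat_mul]
    convert utMat_zero F using 2
    simp

/-- Coordinates on the unitriangular group. -/
noncomputable def utEquiv : F × F × F ≃ ↥(utGroup F) :=
  (Equiv.ofInjective (utMat F) (utMat_injective F))

theorem utEquiv_apply (p : F × F × F) :
    ((utEquiv F p : ↥(utGroup F)) : Matrix.SpecialLinearGroup (Fin 3) F) = utMat F p := rfl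

theorem utEquiv_symm_mul (x y : ↥(utGroup F)) :
    (utEquiv F).symm (x * y) = (((utEquiv F).symm x).1 + ((utEquiv F).symm y).1,
      ((utEquiv F).symm x).2.1 + ((utEquiv F).symm y).2.1,
      ((utEquiv F).symm x).2.2 + ((utEquiv F).symm y).2.2 +
        ((utEquiv F).symm x).1 * ((utEquiv F).symm y).2.1) := by
  rw [Equiv.symm_apply_eq]
  apply Subtype.ext
  rw [utEquiv_apply, ← utMat_mul, Subgroup.coe_mul, ← utEquiv_apply, ← utEquiv_apply,
    Equiv.apply_symm_apply, Equiv.apply_symm_apply]

theorem card_utGroup : Nat.card ↥(utGroup F) = Fintype.card F ^ 3 := by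
  rw [← Nat.card_congr (utEquiv F), Nat.card_prod, Nat.card_prod, Nat.card_eq_fintype_card]
  ring

theorem utGroup_inf_center : utGroup F ⊓ Subgroup.center (Matrix.SpecialLinearGroup (Fin 3) F) = ⊥ := by
  rw [eq_bot_iff]
  rintro g ⟨⟨p, rfl⟩, hg⟩
  replace hg : utMat F p ∈ Subgroup.center (Matrix.SpecialLinearGroup (Fin 3) F) := hg
  rw [Matrix.SpecialLinearGroup.mem_center_iff] at hg
  obtain ⟨r, -, hr⟩ := hg
  rw [Subgroup.mem_bot]
  apply Subtype.ext
  have e00 := congrFun (congrFun hr 0) 0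
  simp [utMat, Matrix.scalar_apply] at e00
  rw [← hr, e00]
  simp [Matrix.scalar_apply]

/-- For a field with four elements the Sylow 2-subgroups of `PSL(3, F)` are unitriangular. -/
theorem exists_sylow_equiv_ut (hF : Fintype.card F = 4) :
    ∃ S : Sylow 2 (Matrix.ProjectiveSpecialLinearGroup (Fin 3) F),
      Nonempty (↥(utGroup F) ≃* ↥(S : Subgroup (Matrix.ProjectiveSpecialLinearGroup (Fin 3) F))) := by
  haveI : Fact (Nat.Prime 2) := ⟨Nat.prime_two⟩
  let π : Matrix.SpecialLinearGroup (Fin 3) F →* Matrix.ProjectiveSpecialLinearGroup (Fin 3) F :=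
    QuotientGroup.mk' _
  let f := π.comp (utGroup F).subtype
  have hf : Function.Injective f := by
    rw [injective_iff_map_eq_one]
    intro g hg
    have h1 : (g : Matrix.SpecialLinearGroup (Fin 3) F) ∈
        utGroup F ⊓ Subgroup.center (Matrix.SpecialLinearGroup (Fin 3) F) :=
      ⟨g.2, (QuotientGroup.eq_one_iff _).1 hg⟩
    rw [utGroup_inf_center, Subgroup.mem_bot] at h1
    exact Subtype.ext h1
  have hR : Nat.card f.range = 2 ^ 6 := by
    rw [← Nat.card_congr (MonoidHom.ofInjective hf).toEquiv, card_utGroup, hF]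
    norm_num
  have hG : Nat.card (Matrix.ProjectiveSpecialLinearGroup (Fin 3) F) = 20160 := by
    have h1 := Cfsg.Agent.Linear.card_SL_mul (F := F) 3
    have h2 := Cfsg.Agent.Linear.card_PSL_mul (F := F) (ι := Fin 3)
    rw [Fin.prod_univ_three] at h1
    simp [hF] at h1 h2
    omega
  obtain ⟨S, hS⟩ := (IsPGroup.of_card (n := 6) hR).exists_le_sylow
  refine ⟨S, ⟨(MonoidHom.ofInjective hf).trans (MulEquiv.subgroupCongr ?_)⟩⟩
  refine Subgroup.eq_of_le_of_card_ge hS ?_
  obtain ⟨k, hk⟩ := S.isPGroup'.exists_card_eq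
  have hd := Subgroup.card_subgroup_dvd_card (S : Subgroup (Matrix.ProjectiveSpecialLinearGroup (Fin 3) F))
  rw [hk, hG] at hd
  have hk6 : k ≤ 6 := by
    by_contra hcon
    have := (pow_dvd_pow 2 (by omega : 7 ≤ k)).trans hd
    norm_num at this
  rw [hR, hk]
  exact Nat.pow_le_pow_right (by norm_num) hk6

variable {F}

/-- A group of order `64` with Heisenberg coordinates is a Sylow 2-subgroup of `PSL(3, F)`. -/
theorem heisenberg_iso {T : Type u} [Group T] [Finite T] (hF : Fintype.card F = 4) (hT : Nat.card T = 64)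
    (a b z : F → T) (ha : ∀ s t, a (s + t) = a s * a t) (hb : ∀ s t, b (s + t) = b s * b t)
    (hz : ∀ s t, z (s + t) = z s * z t) (hzc : ∀ r, z r ∈ Subgroup.center T)
    (hab : ∀ s t, ⁅a s, b t⁆ = z (s * t)) (hzi : ∀ r, z r = 1 → r = 0) :
    ∃ S : Sylow 2 (Matrix.ProjectiveSpecialLinearGroup (Fin 3) F),
      Nonempty (T ≃* ↥(S : Subgroup (Matrix.ProjectiveSpecialLinearGroup (Fin 3) F))) := by
  obtain ⟨S, ⟨e⟩⟩ := exists_sylow_equiv_ut F hF
  refine ⟨S, ⟨?_⟩⟩
  have ha0 : a 0 = 1 := by simpa using ha 0 0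
  have hb0 : b 0 = 1 := by simpa using hb 0 0
  let P : F × F × F → T := fun p => b p.2.1 * a p.1 * z p.2.2
  have hzc' : ∀ r y, y * z r = z r * y := fun r => Subgroup.mem_center_iff.1 (hzc r)
  have hcomm : ∀ s t, a s * b t = z (s * t) * (b t * a s) := fun s t => by
    rw [← hab, commutatorElement_def]; group
  have hP : ∀ p q : F × F × F,
      P (p.1 + q.1, p.2.1 + q.2.1, p.2.2 + q.2.2 + p.1 * q.2.1) = P p * P q := by
    rintro ⟨s, t, r⟩ ⟨s', t', r'⟩
    show b (t + t') * a (s + s') * z (r + r' + s * t') = b t * a s * z r * (b t' * a s' * z r')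
    rw [ha, hb, hz, hz]
    symm
    calc b t * a s * z r * (b t' * a s' * z r') = b t * (a s * b t') * a s' * (z r * z r') := by
          rw [hzc' r (b t * a s), mul_assoc (z r), ← mul_assoc (b t * a s), ← mul_assoc (b t * a s),
            ← hzc' r, mul_assoc _ (z r') (z r), hzc' r (z r')]
          group
      _ = b t * (z (s * t') * (b t' * a s)) * a s' * (z r * z r') := by rw [hcomm]
      _ = z (s * t') * (b t * b t' * (a s * a s') * (z r * z r')) := by
          rw [← mul_assoc (b t), hzc']; group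
      _ = b t * b t' * (a s * a s') * (z r * z r' * z (s * t')) := by
          rw [← hzc']; group
  let f : ↥(utGroup F) →* T := MonoidHom.mk' (fun g => P ((utEquiv F).symm g))
    (fun g h => by rw [utEquiv_symm_mul]; exact hP _ _)
  have hf : Function.Injective f := by
    rw [injective_iff_map_eq_one]
    intro g hg
    obtain ⟨⟨s, t, r⟩, rfl⟩ := (utEquiv F).surjective g
    change P ((utEquiv F).symm (utEquiv F (s, t, r))) = 1 at hg
    rw [Equiv.symm_apply_apply] at hg
    -- commuting with `P (1,0,0)` and `P (0,1,0)` detects the coordinates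
    have hone : P (0, 0, 0) = 1 := by
      show b 0 * a 0 * z 0 = 1
      rw [ha0, hb0, show z 0 = 1 by simpa using hz 0 0]; simp
    have c1 := hP (1, 0, 0) (s, t, r)
    have c2 := hP (s, t, r) (1, 0, 0)
    rw [hg, mul_one] at c1
    rw [hg, one_mul] at c2
    have ht : t = 0 := by
      have h1 := c1.trans c2.symm
      simp only [one_mul, zero_mul, mul_zero, zero_add, add_zero, add_comm s 1] at h1
      change b t * a (1 + s) * z (r + t) = b t * a (1 + s) * z r at h1
      have h2 := mul_left_cancel h1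
      rw [hz, mul_eq_left] at h2
      exact hzi _ h2
    have d1 := hP (0, 1, 0) (s, t, r)
    have d2 := hP (s, t, r) (0, 1, 0)
    rw [hg, mul_one] at d1
    rw [hg, one_mul] at d2
    have hs : s = 0 := by
      have h1 := d1.trans d2.symm
      simp only [mul_one, zero_mul, mul_zero, zero_add, add_zero, add_comm t 1] at h1
      change b (1 + t) * a s * z r = b (1 + t) * a s * z (r + s) at h1
      have h2 := mul_left_cancel h1
      rw [hz, eq_comm, mul_eq_left] at h2
      exact hzi _ h2
    subst ht hs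
    have hr : r = 0 := by
      change b 0 * a 0 * z r = 1 at hg
      rw [ha0, hb0, one_mul, one_mul] at hg
      exact hzi _ hg
    subst hr
    exact Subtype.ext (by rw [utEquiv_apply, utMat_zero]; rfl)
  have hbij : Function.Bijective f := (Nat.bijective_iff_injective_and_card f).2 ⟨hf, by
    rw [card_utGroup, hF, hT]; norm_num⟩
  exact (MulEquiv.ofBijective f hbij).symm.trans e

end Cfsg.Agent.TwoAut
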