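import Cfsg.Agent.TwoAut.DeltaCoords
import Cfsg.Agent.TwoAut.UnitarySylow
import Cfsg.Agent.TwoAut.Heisenberg
import Mathlib

/-!
# Quadratic coordinates on Sylow 2-subgroups of `PSL(3, q)` and `PSU(3, q)`
-/

set_option autoImplicit false
set_option linter.all false

namespace Cfsg.Agent.TwoAut

open Cfsg DeltaChain Cfsg.Agent.Classical.U

universe u v w

theorem artinSchreier_factor {K : Type w} [Field K] [CharP K 2] {x y c : K} (hx : x * x + x = c)
    (hy : y * y + y = c) : (x + y) * (x + (y + 1)) = 0 := by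
  linear_combination hx + hy + (CharTwo.two_eq_zero (R := K)) * (x * y + c)

theorem artinSchreier_norm {K : Type w} [Field K] [CharP K 2] {w c a b : K} (hw : w * w + w = c) :
    (b + a * w + a) * (b + a * w) = b * b + a * b + c * (a * a) := by
  linear_combination (a * a) * hw + (CharTwo.two_eq_zero (R := K)) * (a * b * w)

/-- Transport of quadratic coordinates along an isomorphism. -/
def QuadExt.congr {Q : Type u} [Group Q] {T : Type v} [Group T] {Z M : Type w} [AddCommGroup Z]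
    [AddCommGroup M] {sq : M → Z} (e : QuadExt Q Z M sq) (f : T ≃* Q) : QuadExt T Z M sq where
  proj x := e.proj (f x)
  emb a := f.symm (e.emb a)
  proj_mul x y := by rw [map_mul, e.proj_mul]
  proj_surj m := by obtain ⟨x, hx⟩ := e.proj_surj m; exact ⟨f.symm x, by simp [hx]⟩
  emb_add a b := by rw [e.emb_add, map_mul]
  emb_inj a h := e.emb_inj a (by simpa using congrArg f h)
  emb_central a g := f.injective (by simp [e.emb_central])
  proj_emb a := by simp [e.proj_emb]
  ker_le x hx := by obtain ⟨a, ha⟩ := e.ker_le _ hx; exact ⟨a, f.injective (by simp [ha])⟩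
  square x := f.injective (by rw [map_mul, e.square, MulEquiv.apply_symm_apply])

variable {F : Type} [Field F] [Fintype F]

/-- Split quadratic forms belong to the unitriangular group. -/
theorem ut_quadExt [CharP F 2] {k t : F} (ht : t * t + t = k) :
    Nonempty (QuadExt ↥(utGroup F) F (F × F) (qform k)) := by
  have hz : ∀ x : F, x + x = 0 := CharTwo.add_self_eq_zero
  let π : ↥(utGroup F) → F × F × F := (utEquiv F).symm
  have hπ : ∀ x y : ↥(utGroup F), π (x * y) = ((π x).1 + (π y).1, (π x).2.1 + (π y).2.1,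
      (π x).2.2 + (π y).2.2 + (π x).1 * (π y).2.1) := utEquiv_symm_mul F
  have hπe : ∀ p, π (utEquiv F p) = p := (utEquiv F).symm_apply_apply
  have hπi : Function.Injective π := (utEquiv F).symm.injective
  refine ⟨{
    proj := fun x => ((π x).1 + (π x).2.1, (π x).1 + t * ((π x).1 + (π x).2.1))
    emb := fun c => utEquiv F (0, 0, c)
    proj_mul := fun x y => by
      simp only [hπ, Prod.mk_add_mk, Prod.mk.injEq]
      constructor <;> ring
    proj_surj := ?_
    emb_add := fun a b => hπi (by simp [hπ, hπe])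
    emb_inj := ?_
    emb_central := fun a g => hπi (by simp [hπ, hπe, add_comm])
    proj_emb := fun a => by simp [hπe]
    ker_le := ?_
    square := fun x => hπi ?_ }⟩
  · rintro ⟨A, B⟩
    refine ⟨utEquiv F (B + t * A, B + (t + 1) * A, 0), ?_⟩
    simp only [hπe, Prod.mk.injEq]
    constructor
    · linear_combination (norm := ring_nf) hz (B + t * A)
    · linear_combination (norm := ring_nf) hz (t * A) + hz (t * (B + t * A))
  · intro a h
    have h1 := congrArg π h
    rw [hπe] at h1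
    have h2 : π 1 = (0, 0, 0) := by
      show (utEquiv F).symm 1 = _
      rw [Equiv.symm_apply_eq]
      exact Subtype.ext (by rw [utEquiv_apply, utMat_zero]; rfl)
    rw [h2] at h1
    simpa using h1
  · intro x hx
    simp only [Prod.mk_eq_zero] at hx
    obtain ⟨h1, h2⟩ := hx
    rw [h1, mul_zero, add_zero] at h2
    rw [h2, zero_add] at h1
    refine ⟨(π x).2.2, hπi ?_⟩
    rw [hπe]
    exact Prod.ext h2.symm (Prod.ext h1.symm rfl)
  · rw [hπe, hπ]
    simp only [hz, Prod.mk.injEq, zero_add, true_and, qform]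
    rw [← ht]
    linear_combination (norm := (ring_nf; try simp [Uni.numerals])) (0 : F) * ht

theorem not_dvd_card_PSL {n : ℕ} (hn : n ≠ 0) (hF : Fintype.card F = 2 ^ n) :
    ¬ 2 * (2 ^ n) ^ 3 ∣ Nat.card (Matrix.ProjectiveSpecialLinearGroup (Fin 3) F) := by
  intro h
  have hd : 2 * (2 ^ n) ^ 3 ∣ Nat.card (Matrix.SpecialLinearGroup (Fin 3) F) :=
    h.trans (Subgroup.card_quotient_dvd_card _)
  have h1 := Cfsg.Agent.Linear.card_SL_mul (F := F) 3
  rw [Fin.prod_univ_three, hF] at h1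
  simp only [Fin.val_zero, Fin.val_one, Fin.val_two, pow_zero, pow_one] at h1
  obtain ⟨m, hm⟩ : ∃ m, (2 : ℕ) ^ n = 2 * (m + 1) := by
    refine ⟨2 ^ (n - 1) - 1, ?_⟩
    rw [Nat.sub_add_cancel Nat.one_le_two_pow, ← pow_succ', Nat.sub_add_cancel (by omega)]
  set q := (2 : ℕ) ^ n with hq
  have hq1 : 1 ≤ q := Nat.one_le_two_pow
  have e0 : q ^ 3 - q = q * (q ^ 2 - 1) := by rw [Nat.mul_sub, mul_one]; ring_nf
  have e1 : q ^ 3 - q ^ 2 = q ^ 2 * (q - 1) := by rw [Nat.mul_sub, mul_one]; ring_nf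
  rw [e0, e1] at h1
  have h2 : 2 * q ^ 3 ∣ q ^ 3 * ((q ^ 3 - 1) * (q ^ 2 - 1) * (q - 1)) := by
    have := dvd_mul_of_dvd_right hd (q - 1)
    rw [h1] at this
    exact this.trans (dvd_of_eq (by ring))
  rw [mul_comm 2] at h2
  have h3 := Nat.dvd_of_mul_dvd_mul_left (by positivity) h2
  have hodd : ∀ j, 1 ≤ j → ¬ 2 ∣ q ^ j - 1 := by
    intro j hj
    have : 2 ∣ q ^ j := dvd_trans ⟨m + 1, hm⟩ (dvd_pow_self q (by omega))
    have := Nat.one_le_pow j q hq1
    omega
  rcases (Nat.Prime.dvd_mul Nat.prime_two).1 h3 with h4 | h4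
  · rcases (Nat.Prime.dvd_mul Nat.prime_two).1 h4 with h5 | h5
    · exact hodd 3 (by norm_num) h5
    · exact hodd 2 (by norm_num) h5
  · exact hodd 1 le_rfl (by simpa using h4)

theorem exists_sylow_psl_quadExt {n : ℕ} (hn : n ≠ 0) (hF : Fintype.card F = 2 ^ n) {k t : F}
    (ht : t * t + t = k) :
    ∃ S : Sylow 2 (Matrix.ProjectiveSpecialLinearGroup (Fin 3) F),
      Nonempty (QuadExt ↥(S : Subgroup (Matrix.ProjectiveSpecialLinearGroup (Fin 3) F))
        F (F × F) (qform k)) := by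
  haveI : Fact (Nat.Prime 2) := ⟨Nat.prime_two⟩
  haveI : CharP F 2 := charP_of_card_eq_prime_pow hF
  let π : Matrix.SpecialLinearGroup (Fin 3) F →* Matrix.ProjectiveSpecialLinearGroup (Fin 3) F :=
    QuotientGroup.mk' _
  let f := π.comp (utGroup F).subtype
  have hf : Function.Injective f := by
    rw [injective_iff_map_eq_one]
    intro g hg
    have h1 : (g : Matrix.SpecialLinearGroup (Fin 3) F) ∈
        utGroup F ⊓ Subgroup.center (Matrix.SpecialLinearGroup (Fin 3) F) :=
      ⟨g.2, (QuotientGroup.eq_one_iff _).1 hg⟩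
    rw [utGroup_inf_center, Subgroup.mem_bot] at h1
    exact Subtype.ext h1
  obtain ⟨S, hS⟩ := Uni.eq_sylow_of_card (m := n * 3) f.range
    (by rw [← Nat.card_congr (MonoidHom.ofInjective hf).toEquiv, card_utGroup, hF, ← pow_mul])
    (by rw [pow_succ', pow_mul]; exact not_dvd_card_PSL hn hF)
  obtain ⟨e⟩ := ut_quadExt ht
  exact ⟨S, ⟨e.congr ((MulEquiv.subgroupCongr hS).trans (MonoidHom.ofInjective hf).symm)⟩⟩

set_option maxHeartbeats 2000000 in
/-- A non-split quadratic form belongs to the root subgroup of `PSU(3, q)`. -/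
theorem exists_sylow_psu_quadExt {n : ℕ} (hn : n ≠ 0) (hF : Fintype.card F = 2 ^ n) {k : F}
    (hk : ∀ t : F, t * t + t ≠ k) :
    ∃ (K : Type) (_ : Field K) (_ : Fintype K), Fintype.card K = 4 ^ n ∧
      ∃ S : Sylow 2 (Cfsg.PSU 3 K (2 ^ n)),
        Nonempty (QuadExt ↥(S : Subgroup (Cfsg.PSU 3 K (2 ^ n))) F (F × F) (qform k)) := by
  classical
  haveI : Fact (Nat.Prime 2) := ⟨Nat.prime_two⟩
  haveI : CharP F 2 := charP_of_card_eq_prime_pow hF
  let f : Polynomial F := Polynomial.X ^ 2 + Polynomial.X + Polynomial.C k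
  have hdeg : f.natDegree = 2 := by simp only [f]; compute_degree!
  have hmon : f.Monic := by simp only [f]; monicity!
  haveI : Fact (Irreducible f) := ⟨by
    rw [hmon.irreducible_iff_roots_eq_zero_of_degree_le_three (by omega) (by omega),
      Multiset.eq_zero_iff_forall_notMem]
    intro x hx
    rw [Polynomial.mem_roots hmon.ne_zero] at hx
    simp [f, sq] at hx
    exact hk x (CharTwo.add_eq_zero.1 hx)⟩
  let K := AdjoinRoot f
  let ι : F →+* K := AdjoinRoot.of f
  let ω : K := AdjoinRoot.root f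
  haveI : CharP K 2 := (RingHom.charP_iff_charP ι 2).1 inferInstance
  have hω : ω * ω + ω = ι k := by
    have h := AdjoinRoot.eval₂_root f
    simp [f, sq] at h
    exact CharTwo.add_eq_zero.1 h
  let Φ : F × F → K := fun p => ι p.2 + ι p.1 * ω
  have hΦadd : ∀ x y, Φ (x + y) = Φ x + Φ y := fun x y => by simp only [Φ, Prod.fst_add, Prod.snd_add, map_add]; ring
  have hΦ0 : ∀ x, Φ x = 0 → x = 0 := by
    rintro ⟨A, B⟩ h
    by_cases hA : A = 0
    · subst hA
      simp [Φ] at h
      simp [h]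
    · have hω' : ω = ι (B / A) := by
        rw [map_div₀, eq_div_iff (by simpa using hA)]
        have := CharTwo.add_eq_zero.1 h
        simp only at this
        rw [this, mul_comm]
      refine absurd (ι.injective ?_) (hk (B / A))
      rw [map_add, map_mul, ← hω', hω]
  have hΦinj : Function.Injective Φ := by
    intro x y h
    have h1 : Φ (x + y) = 0 := by rw [hΦadd, h, CharTwo.add_self_eq_zero]
    have h2 := hΦ0 _ h1
    rw [Prod.ext_iff] at h2
    exact Prod.ext (CharTwo.add_eq_zero.1 h2.1) (CharTwo.add_eq_zero.1 h2.2)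
  have hΦsurj : Function.Surjective Φ := by
    intro z
    obtain ⟨p, rfl⟩ := AdjoinRoot.mk_surjective z
    have h1 : AdjoinRoot.mk f p = AdjoinRoot.mk f (p %ₘ f) := by
      rw [AdjoinRoot.mk_eq_mk, Polynomial.modByMonic_eq_sub_mul_div p f, sub_sub_cancel]
      exact dvd_mul_right _ _
    have h2 : (p %ₘ f).natDegree ≤ 1 := by
      have := Polynomial.natDegree_modByMonic_lt p hmon (by intro h; rw [h] at hdeg; simp at hdeg)
      omega
    obtain ⟨A, B, hAB⟩ := Polynomial.exists_eq_X_add_C_of_natDegree_le_one h2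
    refine ⟨(A, B), ?_⟩
    rw [h1, hAB, map_add, map_mul, AdjoinRoot.mk_C, AdjoinRoot.mk_C, AdjoinRoot.mk_X]
    exact add_comm _ _
  haveI : Finite K := Finite.of_surjective Φ hΦsurj
  letI : Fintype K := Fintype.ofFinite K
  have hK : Fintype.card K = (2 ^ n) ^ 2 := by
    rw [← Fintype.card_of_bijective ⟨hΦinj, hΦsurj⟩, Fintype.card_prod, hF, sq]
  have hS := sqField_of_fintype hK
  have hfix : ∀ x : F, ι x ^ (2 ^ n) = ι x := fun x => by
    rw [← map_pow]; show ι (x ^ (2 ^ n)) = _; rw [← hF, FiniteField.pow_card]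
  have hωq : ω ^ (2 ^ n) = ω + 1 := by
    have h1 : ω ^ (2 ^ n) * ω ^ (2 ^ n) + ω ^ (2 ^ n) = ι k := by
      rw [← mul_pow, ← hS.add_pow, hω, hfix]
    have h2 : (ω ^ (2 ^ n) + ω) * (ω ^ (2 ^ n) + (ω + 1)) = 0 := artinSchreier_factor h1 hω
    rcases mul_eq_zero.1 h2 with h3 | h3
    · exfalso
      have hω2 : ω ^ (2 ^ n) = ω := CharTwo.add_eq_zero.1 h3
      have hall : (Uni.tr hS).ker = ⊤ := by
        rw [eq_top_iff]
        intro z _
        obtain ⟨p, rfl⟩ := hΦsurj z
        rw [Uni.mem_ker_tr hS, hS.add_pow, mul_pow, hfix, hfix, hω2]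
      have := (Uni.card_ker_tr hS).1
      rw [hall, Nat.card_congr AddSubgroup.topEquiv.toEquiv, Nat.card_eq_fintype_card, hK] at this
      have h4 : 1 < (2 ^ n) := Nat.one_lt_two_pow hn
      nlinarith
    · exact CharTwo.add_eq_zero.1 h3
  have hΦq : ∀ A B, Φ (A, B) ^ (2 ^ n) = Φ (A, B) + ι A := by
    intro A B
    show (ι B + ι A * ω) ^ (2 ^ n) = ι B + ι A * ω + ι A
    rw [hS.add_pow, mul_pow, hfix, hfix, hωq]
    ring
  have hnorm : ∀ A B, Φ (A, B) ^ (2 ^ n) * Φ (A, B) = ι (qform k (A, B)) := by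
    intro A B
    rw [hΦq]
    show (ι B + ι A * ω + ι A) * (ι B + ι A * ω) = _
    simp only [qform, map_add, map_mul]
    exact artinSchreier_norm hω
  let P : Sylow 2 (Cfsg.PSU 3 K (2 ^ n)) := default
  obtain ⟨c⟩ := Uni.coords_of_sylow_PSU hn hK P
  let Ψ : F × F ≃ K := Equiv.ofBijective Φ ⟨hΦinj, hΦsurj⟩
  have he1 : (c.e 1).1 = (0, 0) := by
    have := c.map_mul 1 1
    rw [mul_one, Prod.ext_iff] at this
    have h1 : (c.e 1).1.1 = 0 := left_eq_add.1 this.1
    have h2 := this.2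
    simp only [h1, mul_zero, add_zero] at h2
    exact Prod.ext h1 (left_eq_add.1 h2)
  let emb : F → ↥(P : Subgroup (Cfsg.PSU 3 K (2 ^ n))) := fun z => c.e.symm ⟨(0, ι z), by
    simp [hfix, CharTwo.add_self_eq_zero, hS.q_ne_zero]⟩
  have hemb : ∀ z, (c.e (emb z)).1 = (0, ι z) := fun z =>
    congrArg Subtype.val (c.e.apply_symm_apply _)
  have hext : ∀ x y : ↥(P : Subgroup (Cfsg.PSU 3 K (2 ^ n))), (c.e x).1 = (c.e y).1 → x = y :=
    fun x y h => c.e.injective (Subtype.ext h)
  refine ⟨K, inferInstance, inferInstance, by rw [hK, ← pow_mul, mul_comm, pow_mul]; norm_num, P, ⟨{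
    proj := fun x => Ψ.symm (c.e x).1.1
    emb := emb
    proj_mul := fun x y => by
      apply Ψ.injective
      rw [Equiv.apply_symm_apply, c.map_mul]
      show _ = Φ _
      rw [hΦadd]
      show _ = Ψ _ + Ψ _
      rw [Equiv.apply_symm_apply, Equiv.apply_symm_apply]
    proj_surj := ?_
    emb_add := fun a b => hext _ _ (by
      rw [c.map_mul, hemb, hemb, hemb]; simp [hS.q_ne_zero])
    emb_inj := fun a h => by
      have := hemb a
      rw [h, he1, Prod.ext_iff] at this
      exact (map_eq_zero ι).1 this.2.symm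
    emb_central := fun a g => hext _ _ (by
      rw [c.map_mul, c.map_mul, hemb]; simp [hS.q_ne_zero, add_comm])
    proj_emb := fun a => by
      rw [Equiv.symm_apply_eq, hemb]
      show (0 : K) = Φ 0; simp [Φ]
    ker_le := ?_
    square := fun x => hext _ _ ?_ }⟩⟩
  · intro m
    obtain ⟨b, hb⟩ := Uni.exists_tr_eq hS (Uni.norm_fix hS (Ψ m))
    exact ⟨c.e.symm ⟨(Ψ m, b), hb⟩, by
      rw [Equiv.symm_apply_eq]
      exact congrArg (fun p : Uni.Pairs K (2 ^ n) => p.1.1) (c.e.apply_symm_apply _)⟩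
  · intro x hx
    rw [Equiv.symm_apply_eq] at hx
    have ha : (c.e x).1.1 = 0 := by rw [hx]; show Φ 0 = (0 : K); simp [Φ]
    have hb := (c.e x).2
    rw [ha, zero_mul, CharTwo.add_eq_zero, eq_comm] at hb
    obtain ⟨⟨A, B⟩, hAB⟩ := hΦsurj (c.e x).1.2
    rw [← hAB, hΦq, add_eq_left, map_eq_zero] at hb
    subst hb
    refine ⟨B, hext _ _ ?_⟩
    rw [hemb]
    refine Prod.ext ha.symm ?_
    rw [← hAB]
    simp [Φ]
  · rw [c.map_mul, hemb, CharTwo.add_self_eq_zero, CharTwo.add_self_eq_zero, zero_add]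
    obtain ⟨⟨A, B⟩, hAB⟩ := Ψ.surjective (c.e x).1.1
    rw [← hAB, Equiv.symm_apply_apply]
    show ((0 : K), Φ (A, B) ^ (2 ^ n) * Φ (A, B)) = _
    rw [hnorm]

end Cfsg.Agent.TwoAut
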