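import Cfsg.Prelude.Def_Transfer
import Mathlib

/-!
# Field coordinates on an elementary abelian group with a transitive automorphism
-/

set_option autoImplicit false
set_option linter.all false

namespace Cfsg.Agent.TwoAut

universe u

/-- An additive group of order `2 ^ n` with an automorphism transitive on its nonzero elements is
the additive group of `GF(2 ^ n)`, the automorphism being multiplication by a generator. -/
theorem exists_field_coords {A : Type u} [AddCommGroup A] [Finite A] (n : ℕ) (hn : n ≠ 0)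
    (hcard : Nat.card A = 2 ^ n) (σ : A ≃+ A)
    (htr : ∀ x y : A, x ≠ 0 → y ≠ 0 → ∃ k : ℕ, (⇑σ)^[k] x = y) :
    ∃ (e : A ≃+ GaloisField 2 n) (lam : GaloisField 2 n), (∀ a, e (σ a) = lam * e a) ∧
      ∀ t : GaloisField 2 n, t ≠ 0 → ∃ k : ℕ, lam ^ k = t := by
  classical
  haveI : Fact (Nat.Prime 2) := ⟨Nat.prime_two⟩
  haveI : Nontrivial A := Finite.one_lt_card_iff_nontrivial.1 (by
    rw [hcard]; exact Nat.one_lt_two_pow hn)
  obtain ⟨a0, ha0⟩ := exists_ne (0 : A)
  let s : AddMonoid.End A := σ.toAddMonoidHom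
  let E : Subring (AddMonoid.End A) := Subring.centralizer {s}
  have hs : ∀ (k : ℕ) (a : A), (s ^ k : AddMonoid.End A) a = (⇑σ)^[k] a := by
    intro k
    induction k with
    | zero => intro a; rfl
    | succ k ih =>
      intro a
      rw [pow_succ', Function.iterate_succ_apply']
      show σ ((s ^ k : AddMonoid.End A) a) = σ ((⇑σ)^[k] a)
      rw [ih]
  have hsE : ∀ k : ℕ, s ^ k ∈ E := fun k => by
    rw [Subring.mem_centralizer_iff]
    rintro g rfl
    exact (Commute.self_pow s k).eq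
  have hcomm : ∀ e : E, ∀ (k : ℕ) (a : A), (e : AddMonoid.End A) ((⇑σ)^[k] a) =
      (⇑σ)^[k] ((e : AddMonoid.End A) a) := by
    intro e k a
    rw [← hs, ← hs]
    have h1 : Commute s (e : AddMonoid.End A) := Subring.mem_centralizer_iff.1 e.2 s rfl
    have h2 := (h1.pow_left k).eq
    exact (DFunLike.congr_fun h2 a).symm
  have hev : ∀ e : E, (e : AddMonoid.End A) a0 = 0 → e = 0 := by
    intro e he
    apply Subtype.ext
    ext a
    by_cases ha : a = 0
    · subst ha; simp
    · obtain ⟨k, rfl⟩ := htr a0 a ha0 ha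
      rw [hcomm e k a0, he, ← hs, map_zero]
      rfl
  let ev : E →+ A :=
    { toFun := fun e => (e : AddMonoid.End A) a0
      map_zero' := rfl
      map_add' := fun _ _ => rfl }
  have hinj : Function.Injective ev := (injective_iff_map_eq_zero ev).2 hev
  have hsurj : Function.Surjective ev := by
    intro a
    by_cases ha : a = 0
    · exact ⟨0, ha.symm⟩
    · obtain ⟨k, rfl⟩ := htr a0 a ha0 ha
      exact ⟨⟨s ^ k, hsE k⟩, hs k a0⟩
  let eA : E ≃+ A := AddEquiv.ofBijective ev ⟨hinj, hsurj⟩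
  have hpow : ∀ e : E, e ≠ 0 → ∃ k : ℕ, e = ⟨s, by simpa using hsE 1⟩ ^ k := by
    intro e he
    obtain ⟨k, hk⟩ := htr a0 _ ha0 (fun h => he (hev e h))
    refine ⟨k, hinj ?_⟩
    show (e : AddMonoid.End A) a0 = _
    rw [← hk, ← hs]
    show _ = ((⟨s, _⟩ ^ k : E) : AddMonoid.End A) a0
    rw [SubmonoidClass.coe_pow]
  haveI : Finite E := Finite.of_injective ev hinj
  haveI : Nontrivial E := ⟨⟨0, 1, fun h => ha0 (by
    have := congrArg ev h
    exact this.symm)⟩⟩
  haveI : NoZeroDivisors E := ⟨fun {x y} hxy => by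
    by_contra hcon
    push_neg at hcon
    obtain ⟨k, rfl⟩ := hpow x hcon.1
    obtain ⟨l, rfl⟩ := hpow y hcon.2
    rw [← pow_add] at hxy
    have := congrArg ev hxy
    change ((⟨s, _⟩ ^ (k + l) : E) : AddMonoid.End A) a0 = 0 at this
    rw [SubmonoidClass.coe_pow] at this
    change (s ^ (k + l)) a0 = 0 at this
    rw [hs] at this
    exact ha0 ((σ.injective.iterate (k + l)) (this.trans (Function.iterate_fixed (map_zero σ) _).symm))⟩
  haveI : IsDomain E := NoZeroDivisors.to_isDomain _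
  letI : Field E := (Finite.isDomain_to_isField E).toField
  letI : Fintype E := Fintype.ofFinite _
  letI : Fintype (GaloisField 2 n) := Fintype.ofFinite _
  have hc : Fintype.card E = Fintype.card (GaloisField 2 n) := by
    rw [← Nat.card_eq_fintype_card, ← Nat.card_eq_fintype_card, GaloisField.card 2 n hn,
      Nat.card_congr eA.toEquiv, hcard]
  let φ : E ≃+* GaloisField 2 n := FiniteField.ringEquivOfCardEq hc
  let sE : E := ⟨s, by simpa using hsE 1⟩
  refine ⟨eA.symm.trans φ.toAddEquiv, φ sE, fun a => ?_, fun t ht => ?_⟩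
  · show φ (eA.symm (σ a)) = φ sE * φ (eA.symm a)
    rw [← map_mul]
    congr 1
    rw [AddEquiv.symm_apply_eq]
    show σ a = σ (((eA.symm a : E) : AddMonoid.End A) a0)
    exact congrArg σ (eA.apply_symm_apply a).symm
  · obtain ⟨e, rfl⟩ := φ.surjective t
    obtain ⟨k, rfl⟩ := hpow e (fun h => ht (by rw [h, map_zero]))
    exact ⟨k, (map_pow φ _ k).symm⟩

/-- Field coordinates on a fixed-point subgroup with a transitive automorphism. -/
theorem exists_subgroup_field_coords {Q : Type u} [Group Q] [Finite Q] (C : Subgroup Q)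
    (hCE : Cfsg.IsElementaryAbelian 2 C) (n : ℕ) (hn : 2 ≤ n) (hcard : Nat.card C = 2 ^ n)
    (ρ : MulAut Q) (hρC : ∀ x, x ∈ C → ρ x ∈ C)
    (htr : ∀ x y : Q, x ∈ C → y ∈ C → x ≠ 1 → y ≠ 1 → ∃ k : ℕ, (ρ ^ k) x = y) :
    ∃ (L : Q → GaloisField 2 n) (lam : GaloisField 2 n),
      (∀ x y, x ∈ C → y ∈ C → L (x * y) = L x + L y) ∧ (∀ x, x ∈ C → L x = 0 → x = 1) ∧
      (∀ x, x ∈ C → L (ρ x) = lam * L x) ∧ (∀ t, t ≠ 0 → ∃ k : ℕ, lam ^ k = t) ∧
      ∃ t : GaloisField 2 n, t ≠ 0 ∧ t ≠ 1 := by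
  classical
  haveI : Fact (Nat.Prime 2) := ⟨Nat.prime_two⟩
  haveI := hCE.1
  letI : CommGroup C := { (inferInstance : Group C) with mul_comm := fun a b => mul_comm' a b }
  let σ0 : C →* C := MonoidHom.mk' (fun x => ⟨ρ x.1, hρC _ x.2⟩) (fun x y => Subtype.ext (map_mul ρ _ _))
  have hσ0 : Function.Bijective σ0 := Finite.injective_iff_bijective.1 (fun x y h => by
    exact Subtype.ext (ρ.injective (congrArg Subtype.val h)))
  let σ : Additive C ≃+ Additive C := (MulEquiv.ofBijective σ0 hσ0).toAdditive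
  have hσpow : ∀ (k : ℕ) (a : Additive C),
      (((⇑σ)^[k] a).toMul : C).1 = (ρ ^ k) a.toMul.1 := by
    intro k
    induction k with
    | zero => intro a; rfl
    | succ k ih =>
      intro a
      rw [pow_succ', Function.iterate_succ_apply']
      show ρ (((⇑σ)^[k] a).toMul : C).1 = ρ ((ρ ^ k) a.toMul.1)
      rw [ih]
  have htr' : ∀ x y : Additive C, x ≠ 0 → y ≠ 0 → ∃ k : ℕ, (⇑σ)^[k] x = y := by
    intro x y hx hy
    obtain ⟨k, hk⟩ := htr x.toMul.1 y.toMul.1 x.toMul.2 y.toMul.2
      (fun h => hx (Subtype.ext h : x.toMul = 1)) (fun h => hy (Subtype.ext h : y.toMul = 1))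
    exact ⟨k, Additive.toMul.injective (Subtype.ext (by rw [hσpow, hk]))⟩
  obtain ⟨e, lam, he, hgen⟩ := exists_field_coords n (by omega)
    ((Nat.card_congr Additive.toMul).trans hcard) σ htr'
  refine ⟨fun x => if h : x ∈ C then e (Additive.ofMul ⟨x, h⟩) else 0, lam, ?_, ?_, ?_, hgen, ?_⟩
  · intro x y hx hy
    simp only [dif_pos hx, dif_pos hy, dif_pos (mul_mem hx hy), ← map_add]
    rfl
  · intro x hx h
    simp only [dif_pos hx] at h
    rw [AddEquiv.map_eq_zero_iff] at h
    exact congrArg (fun a : Additive C => (a.toMul : C).1) h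
  · intro x hx
    simp only [dif_pos hx, dif_pos (hρC x hx)]
    exact he (Additive.ofMul ⟨x, hx⟩)
  · letI : Fintype (GaloisField 2 n) := Fintype.ofFinite _
    have hc : 2 < Fintype.card (GaloisField 2 n) := by
      rw [← Nat.card_eq_fintype_card, GaloisField.card 2 n (by omega)]
      calc 2 < 2 ^ 2 := by norm_num
        _ ≤ 2 ^ n := Nat.pow_le_pow_right (by norm_num) hn
    obtain ⟨t, -, ht⟩ := Finset.exists_mem_notMem_of_card_lt_card
      (s := ({0, 1} : Finset (GaloisField 2 n))) (t := Finset.univ)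
      (by rw [Finset.card_univ]; exact lt_of_le_of_lt Finset.card_le_two hc)
    simp at ht
    exact ⟨t, ht.1, ht.2⟩

end Cfsg.Agent.TwoAut
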