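import Cfsg.Agent.Char.Burnside
import Mathlib

/-!
# Isometry groups of anisotropic quadratic maps into a group of order at most four

Everything is written multiplicatively: `E` and `A` are groups of exponent two, `q : E → A`
satisfies the quadratic (cubic) identity and vanishes only at `1`.
The group of automorphisms of `E` preserving `q` is solvable.
-/

set_option autoImplicit false
set_option linter.all false

namespace Cfsg.Agent.TwoAut

universe u v

theorem solvable_of_hom {G : Type u} {H : Type v} [Group G] [Group H] (f : G →* H)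
    (hH : Group.IsSolvable H) (hk : Group.IsSolvable f.ker) : Group.IsSolvable G := by
  haveI := hH; haveI := hk
  exact Group.isSolvable_of_ker_le_range f.ker.subtype f (by rw [Subgroup.range_subtype])

theorem solvable_perm_small {α : Type u} [Finite α] (h : Nat.card α ≤ 4) :
    Group.IsSolvable (Equiv.Perm α) := by
  classical
  haveI := Fintype.ofFinite α
  refine Cfsg.Agent.Char.solvable_of_card_eq_pow_mul_pow 2 3 Nat.prime_two Nat.prime_three
    (Nat.card (Equiv.Perm α)) rfl fun r hr hd => ?_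
  rw [Nat.card_eq_fintype_card, Fintype.card_perm, hr.dvd_factorial, ← Nat.card_eq_fintype_card] at hd
  have h4 : r ≠ 4 := by rintro rfl; norm_num at hr
  have := hr.two_le
  omega

/-- The hypotheses of this file. -/
structure Aniso {E : Type u} {A : Type v} [CommGroup E] [CommGroup A] (q : E → A) : Prop where
  sqE : ∀ x : E, x * x = 1
  sqA : ∀ a : A, a * a = 1
  card_le : Nat.card A ≤ 4
  cubic : ∀ x y z, q (x * y * z) = q (x * y) * q (x * z) * q (y * z) * q x * q y * q z
  one : q 1 = 1
  eq_one : ∀ x, q x = 1 → x = 1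

variable {E : Type u} {A : Type v} [CommGroup E] [CommGroup A] {q : E → A}

/-- The polar form. -/
def polarForm (q : E → A) (x y : E) : A := q (x * y) * q x * q y

theorem Aniso.polar_mul (h : Aniso q) (x y z : E) :
    polarForm q x (y * z) = polarForm q x y * polarForm q x z := by
  have hc : ∀ a b : A, a * (a * b) = b := fun a b => by rw [← mul_assoc, h.sqA, one_mul]
  simp only [polarForm, ← mul_assoc x y z, h.cubic x y z]
  simp only [mul_assoc, mul_comm, mul_left_comm, h.sqA, hc, mul_one]

theorem Aniso.polar_self (h : Aniso q) (x : E) : polarForm q x x = 1 := by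
  rw [polarForm, h.sqE, h.one, one_mul, h.sqA]

theorem polar_comm (x y : E) : polarForm q x y = polarForm q y x := by
  rw [polarForm, polarForm, mul_comm x y, mul_right_comm]

theorem Aniso.q_mul (h : Aniso q) (x y : E) : q (x * y) = q x * q y * polarForm q x y := by
  have hc : ∀ a b : A, a * (a * b) = b := fun a b => by rw [← mul_assoc, h.sqA, one_mul]
  simp only [polarForm, mul_assoc, mul_comm, mul_left_comm, h.sqA, hc, mul_one]

theorem Aniso.inv_eq (h : Aniso q) (x : E) : x⁻¹ = x := inv_eq_of_mul_eq_one_right (h.sqE x)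

theorem Aniso.q_ne_one (h : Aniso q) {x : E} (hx : x ≠ 1) : q x ≠ 1 := fun e => hx (h.eq_one x e)

/-- The polar form against a fixed element, as a homomorphism. -/
def Aniso.polarHom (h : Aniso q) (a : E) : E →* A :=
  MonoidHom.mk' (polarForm q a) (h.polar_mul a)

/-- The orthogonal of an element. -/
def Aniso.perp (h : Aniso q) (a : E) : Subgroup E := (h.polarHom a).ker

theorem Aniso.mem_perp (h : Aniso q) {a x : E} : x ∈ h.perp a ↔ polarForm q a x = 1 := Iff.rfl

theorem Aniso.card_le_perp [Finite E] [Finite A] (h : Aniso q) (a : E) :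
    Nat.card E ≤ Nat.card (h.perp a) * Nat.card (h.polarHom a).range := by
  rw [← Subgroup.index_ker, ← Aniso.perp, Subgroup.card_mul_index]

/-- Four values at most. -/
theorem Aniso.values [Finite A] (h : Aniso q) {α γ : A} (hα : α ≠ 1) (hγ : γ ≠ 1) (hne : γ ≠ α)
    (y : A) : y = 1 ∨ y = α ∨ y = γ ∨ y = α * γ := by
  classical
  haveI := Fintype.ofFinite A
  have h1 : α * γ ≠ 1 := fun e => hne (by rw [← one_mul γ, ← h.sqA α, mul_assoc, e, mul_one])
  have h2 : α * γ ≠ α := fun e => hγ (mul_eq_left.1 e)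
  have h3 : α * γ ≠ γ := fun e => hα (mul_eq_right.1 e)
  have hc : ({1, α, γ, α * γ} : Finset A).card = 4 := by
    rw [Finset.card_insert_of_notMem, Finset.card_insert_of_notMem, Finset.card_insert_of_notMem,
      Finset.card_singleton]
    · simpa using Ne.symm h3
    · simp [Ne.symm hne, Ne.symm h2]
    · simp [Ne.symm hα, Ne.symm hγ, Ne.symm h1]
  have heq := Finset.eq_univ_of_card ({1, α, γ, α * γ} : Finset A) (le_antisymm (Finset.card_le_univ _)
    (by rw [hc, ← Nat.card_eq_fintype_card]; exact h.card_le))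
  simpa using heq.ge (Finset.mem_univ y)

theorem Aniso.q_perp (h : Aniso q) {a k : E} (hk : k ∈ h.perp a) : q (a * k) = q a * q k := by
  rw [h.q_mul, h.mem_perp.1 hk, mul_one]

theorem Aniso.perp_q_ne (h : Aniso q) {a k : E} (hk : k ∈ h.perp a) (hka : k ≠ a) : q k ≠ q a := by
  intro e
  have := h.eq_one _ (by rw [h.q_perp hk, e, h.sqA] : q (a * k) = 1)
  exact hka (by rw [← h.inv_eq a]; exact (inv_eq_of_mul_eq_one_right this).symm)

/-- Elements of `a^⊥` of a given value. -/
def Aniso.slice (h : Aniso q) (a : E) (γ : A) : Set E := {k | k ∈ h.perp a ∧ q k = γ}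

theorem Aniso.slice_le [Finite E] [Finite A] (h : Aniso q) {a : E} (ha : a ≠ 1) {γ : A} (hγ : γ ≠ 1)
    (hne : γ ≠ q a) : Nat.card (h.slice a γ) ≤ 3 := by
  classical
  have hα := h.q_ne_one ha
  by_contra hcon
  have hs : 4 ≤ (h.slice a γ).toFinite.toFinset.card := by
    rw [← Set.ncard_eq_toFinset_card _, ← Nat.card_coe_set_eq]; omega
  obtain ⟨b, hb⟩ := Finset.card_pos.1 (by omega : 0 < (h.slice a γ).toFinite.toFinset.card)
  obtain ⟨c, hc⟩ := Finset.card_pos.1 (by rw [Finset.card_erase_of_mem hb]; omega :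
    0 < ((h.slice a γ).toFinite.toFinset.erase b).card)
  set S := (((h.slice a γ).toFinite.toFinset.erase b).erase c)
  have hS : 2 ≤ S.card := by
    rw [Finset.card_erase_of_mem hc, Finset.card_erase_of_mem hb]; omega
  rw [Finset.mem_erase, Set.Finite.mem_toFinset] at hc
  rw [Set.Finite.mem_toFinset] at hb
  obtain ⟨hcb, hcK, hcq⟩ := hc
  obtain ⟨hbK, hbq⟩ := hb
  have mul_ne_one : ∀ {x y : E}, x ≠ y → x * y ≠ 1 := fun {x y} hxy e => hxy (by
    rw [← inv_eq_of_mul_eq_one_right e, h.inv_eq])
  -- products of two slice elements avoid `1` and `a`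
  have pair : ∀ {x y : E}, x ∈ h.perp a → q x = γ → y ∈ h.perp a → q y = γ → x ≠ y →
      x * y ≠ 1 ∧ x * y ≠ a := by
    intro x y hx hxq hy hyq hxy
    refine ⟨mul_ne_one hxy, fun e => ?_⟩
    have : y = a * x := by rw [← e, mul_comm x y, mul_assoc, h.sqE, mul_one]
    rw [this, h.q_perp hx, hxq] at hyq
    exact hα (mul_eq_right.1 hyq)
  obtain ⟨d, hd, hd1, hd2⟩ : ∃ d ∈ S, d ≠ b * c ∧ d ≠ b * c * a := by
    by_contra hno
    push Not at hno
    have hsub : S ⊆ ({b * c, b * c * a} : Finset E) := fun d hd => by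
      rw [Finset.mem_insert, Finset.mem_singleton]
      by_cases e : d = b * c
      · exact Or.inl e
      · exact Or.inr (hno d hd e)
    have h2 : S = {b * c, b * c * a} := Finset.eq_of_subset_of_card_le hsub
      ((Finset.card_le_two).trans hS)
    have m1 : b * c ∈ S := by rw [h2]; simp
    have m2 : b * c * a ∈ S := by rw [h2]; simp
    simp only [S, Finset.mem_erase, Set.Finite.mem_toFinset] at m1 m2
    have e1 := m1.2.2.2
    have e2 := m2.2.2.2
    rw [mul_comm (b * c) a, h.q_perp m1.2.2.1, e1] at e2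
    exact hα (mul_eq_right.1 e2)
  simp only [S, Finset.mem_erase, Set.Finite.mem_toFinset] at hd
  obtain ⟨hdc, hdb, hdK, hdq⟩ := hd
  have val : ∀ x ∈ h.perp a, x ≠ 1 → x ≠ a → q x = γ ∨ q x = q a * γ := by
    intro x hx h1 h2
    rcases h.values hα hγ hne (q x) with e | e | e | e
    · exact absurd e (h.q_ne_one h1)
    · exact absurd e (h.perp_q_ne hx h2)
    · exact Or.inl e
    · exact Or.inr e
  obtain ⟨p1, p1'⟩ := pair hbK hbq hcK hcq (Ne.symm hcb)
  obtain ⟨p2, p2'⟩ := pair hbK hbq hdK hdq (Ne.symm hdb)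
  obtain ⟨p3, p3'⟩ := pair hcK hcq hdK hdq (Ne.symm hdc)
  have q1 : b * c * d ≠ 1 := mul_ne_one (Ne.symm hd1)
  have q2 : b * c * d ≠ a := fun e => hd2 (by
    rw [← e, ← mul_assoc, h.sqE, one_mul])
  have id7 := h.cubic b c d
  rw [hbq, hcq, hdq] at id7
  have hcA : ∀ x y : A, x * (x * y) = y := fun x y => by rw [← mul_assoc, h.sqA, one_mul]
  rcases val _ (mul_mem (mul_mem hbK hcK) hdK) q1 q2 with e0 | e0 <;>
    rcases val _ (mul_mem hbK hcK) p1 p1' with e1 | e1 <;>
    rcases val _ (mul_mem hbK hdK) p2 p2' with e2 | e2 <;>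
    rcases val _ (mul_mem hcK hdK) p3 p3' with e3 | e3 <;>
    rw [e0, e1, e2, e3] at id7 <;>
    simp only [mul_assoc, mul_comm, mul_left_comm, h.sqA, hcA, mul_one, one_mul] at id7 <;>
    first
      | exact hα id7
      | exact hα id7.symm
      | exact hγ id7
      | exact hγ id7.symm
      | exact hne id7
      | exact hne id7.symm
      | exact hγ (mul_eq_right.1 id7)
      | exact hγ (mul_eq_right.1 id7.symm)
      | exact hα (mul_eq_left.1 id7)
      | exact hα (mul_eq_left.1 id7.symm)
      | exact hne ((eq_inv_of_mul_eq_one_left id7).trans (inv_eq_of_mul_eq_one_right (h.sqA _)))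
      | exact hne ((eq_inv_of_mul_eq_one_left id7.symm).trans (inv_eq_of_mul_eq_one_right (h.sqA _)))

theorem Aniso.perp_subset [Finite A] (h : Aniso q) {a : E} (ha : a ≠ 1) {γ : A} (hγ : γ ≠ 1)
    (hne : γ ≠ q a) {k : E} (hk : k ∈ h.perp a) :
    k = 1 ∨ k = a ∨ k ∈ h.slice a γ ∨ a * k ∈ h.slice a γ := by
  by_cases h1 : k = 1
  · exact Or.inl h1
  by_cases h2 : k = a
  · exact Or.inr (Or.inl h2)
  rcases h.values (h.q_ne_one ha) hγ hne (q k) with e | e | e | e
  · exact absurd e (h.q_ne_one h1)
  · exact absurd e (h.perp_q_ne hk h2)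
  · exact Or.inr (Or.inr (Or.inl ⟨hk, e⟩))
  · refine Or.inr (Or.inr (Or.inr ⟨mul_mem (h.mem_perp.2 (h.polar_self a)) hk, ?_⟩))
    rw [h.q_perp hk, e, ← mul_assoc, h.sqA, one_mul]

theorem Aniso.card_perp_le [Finite E] [Finite A] (h : Aniso q) {a : E} (ha : a ≠ 1) {γ : A}
    (hγ : γ ≠ 1) (hne : γ ≠ q a) :
    Nat.card (h.perp a) ≤ 2 + 2 * Nat.card (h.slice a γ) := by
  have hsub : (h.perp a : Set E) ⊆ {1, a} ∪ (h.slice a γ ∪ (fun k => a * k) '' h.slice a γ) := by
    intro k hk
    rcases h.perp_subset ha hγ hne hk with e | e | e | e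
    · left; simp [e]
    · left; simp [e]
    · right; left; exact e
    · right; right; exact ⟨a * k, e, by show a * (a * k) = k; rw [← mul_assoc, h.sqE, one_mul]⟩
  have h1 := (Set.ncard_le_ncard hsub).trans ((Set.ncard_union_le _ _).trans
    (Nat.add_le_add ((Set.ncard_insert_le _ _).trans (by rw [Set.ncard_singleton]))
      ((Set.ncard_union_le _ _).trans (Nat.add_le_add_left (Set.ncard_image_le (Set.toFinite _)) _))))
  rw [Nat.card_coe_set_eq, ← SetLike.coe_sort_coe, Nat.card_coe_set_eq]
  omega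

theorem Aniso.card_perp_le_two [Finite E] [Finite A] (h : Aniso q) {a : E} (ha : a ≠ 1)
    (hno : ∀ γ : A, γ = 1 ∨ γ = q a) : Nat.card (h.perp a) ≤ 2 := by
  have hsub : (h.perp a : Set E) ⊆ {1, a} := by
    intro k hk
    by_cases h1 : k = 1
    · simp [h1]
    by_cases h2 : k = a
    · simp [h2]
    rcases hno (q k) with e | e
    · exact absurd e (h.q_ne_one h1)
    · exact absurd e (h.perp_q_ne hk h2)
  rw [← SetLike.coe_sort_coe, Nat.card_coe_set_eq]
  exact (Set.ncard_le_ncard hsub).trans ((Set.ncard_insert_le _ _).trans (by rw [Set.ncard_singleton]))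

theorem Aniso.card_perp_le_eight [Finite E] [Finite A] (h : Aniso q) {a : E} (ha : a ≠ 1) :
    Nat.card (h.perp a) ≤ 8 := by
  by_cases hg : ∃ γ : A, γ ≠ 1 ∧ γ ≠ q a
  · obtain ⟨γ, hγ, hne⟩ := hg
    have := h.card_perp_le ha hγ hne
    have := h.slice_le ha hγ hne
    omega
  · push Not at hg
    have := h.card_perp_le_two ha (fun γ => by tauto)
    omega

theorem Aniso.card_range_le [Finite A] (h : Aniso q) (a : E) :
    Nat.card (h.polarHom a).range ≤ 4 :=
  ((h.polarHom a).range.card_le_card_group).trans h.card_le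

/-- A subgroup with no radical for a mod-two alternating form has square order. -/
theorem square_card_of_nondeg [Finite E] (hE : ∀ x : E, x * x = 1) (f : E → E → ZMod 2)
    (hadd : ∀ x y z, f x (y * z) = f x y + f x z) (hs : ∀ x y, f x y = f y x) (halt : ∀ x, f x x = 0)
    (N : ℕ) : ∀ P : Subgroup E, Nat.card P = N → (∀ c ∈ P, c ≠ 1 → ∃ d ∈ P, f c d = 1) →
      IsSquare N := by
  induction N using Nat.strong_induction_on with
  | _ N ih =>
    intro P hN hnd
    by_cases hP : P = ⊥
    · subst hP; rw [Subgroup.card_bot] at hN; exact ⟨1, by rw [← hN]⟩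
    obtain ⟨c, hcP, hc1⟩ := (Subgroup.ne_bot_iff_exists_ne_one.1 hP |> fun ⟨⟨c, hc⟩, h⟩ =>
      (⟨c, hc, fun e => h (Subtype.ext e)⟩ : ∃ c ∈ P, c ≠ 1))
    obtain ⟨d, hdP, hcd⟩ := hnd c hcP hc1
    have hf1 : ∀ x, f x 1 = 0 := fun x => by simpa using hadd x 1 1
    let P' : Subgroup E :=
      { carrier := {x | x ∈ P ∧ f c x = 0 ∧ f d x = 0}
        one_mem' := ⟨P.one_mem, hf1 c, hf1 d⟩
        mul_mem' := fun {x y} hx hy => ⟨P.mul_mem hx.1 hy.1,
          by rw [hadd, hx.2.1, hy.2.1, add_zero], by rw [hadd, hx.2.2, hy.2.2, add_zero]⟩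
        inv_mem' := fun {x} hx => by rw [inv_eq_of_mul_eq_one_right (hE x)]; exact hx }
    have hpow : ∀ (x : E) (i : ZMod 2) (z : E), f z (x ^ i.val) = i * f z x := by
      intro x i z
      fin_cases i
      · show f z (x ^ 0) = 0 * f z x
        rw [pow_zero, zero_mul, hf1]
      · show f z (x ^ 1) = 1 * f z x
        rw [pow_one, one_mul]
    have hdc : f d c = 1 := by rw [hs]; exact hcd
    have z2 : ∀ i : ZMod 2, i + i = 0 := CharTwo.add_self_eq_zero
    have hsq : ∀ (x : E) (i : ZMod 2), x ^ i.val * x ^ i.val = 1 := fun x i => hE _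
    let e : P ≃ P' × ZMod 2 × ZMod 2 :=
      { toFun := fun x => (⟨(x : E) * c ^ (f d x).val * d ^ (f c x).val,
          P.mul_mem (P.mul_mem x.2 (P.pow_mem hcP _)) (P.pow_mem hdP _),
          by rw [hadd, hadd, hpow, hpow, halt, hcd, mul_zero, mul_one, add_zero, z2],
          by rw [hadd, hadd, hpow, hpow, halt, hdc, mul_zero, mul_one, add_zero, z2]⟩, f d x, f c x)
        invFun := fun p => ⟨(p.1 : E) * c ^ p.2.1.val * d ^ p.2.2.val,
          P.mul_mem (P.mul_mem p.1.2.1 (P.pow_mem hcP _)) (P.pow_mem hdP _)⟩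
        left_inv := fun x => Subtype.ext (by
          show (x : E) * c ^ (f d x).val * d ^ (f c x).val * c ^ (f d x).val * d ^ (f c x).val = x
          rw [mul_right_comm _ (d ^ _) (c ^ _), mul_assoc (x : E) (c ^ _) (c ^ _), hsq, mul_one,
            mul_assoc, hsq, mul_one])
        right_inv := by
          rintro ⟨⟨y, hy⟩, i, j⟩
          have e1 : f d (y * c ^ i.val * d ^ j.val) = i := by
            rw [hadd, hadd, hpow, hpow, halt, hdc, hy.2.2, zero_add, mul_one, mul_zero, add_zero]
          have e2 : f c (y * c ^ i.val * d ^ j.val) = j := by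
            rw [hadd, hadd, hpow, hpow, halt, hcd, hy.2.1, zero_add, mul_one, mul_zero, zero_add]
          refine Prod.ext (Subtype.ext ?_) (Prod.ext e1 e2)
          show y * c ^ i.val * d ^ j.val * c ^ (f d (y * c ^ i.val * d ^ j.val)).val *
            d ^ (f c (y * c ^ i.val * d ^ j.val)).val = y
          rw [e1, e2, mul_right_comm _ (d ^ _) (c ^ _), mul_assoc y, hsq, mul_one, mul_assoc, hsq,
            mul_one] }
    have hcard : N = Nat.card P' * 4 := by
      rw [← hN, Nat.card_congr e, Nat.card_prod, Nat.card_prod, Nat.card_zmod]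
    have hpos : 0 < Nat.card P' := Nat.card_pos
    obtain ⟨r, hr⟩ := ih (Nat.card P') (by omega) P' rfl (fun x hx hx1 => by
      obtain ⟨y, hy, hxy⟩ := hnd x hx.1 hx1
      refine ⟨y * c ^ (f d y).val * d ^ (f c y).val,
        ⟨P.mul_mem (P.mul_mem hy (P.pow_mem hcP _)) (P.pow_mem hdP _),
          by rw [hadd, hadd, hpow, hpow, halt, hcd, mul_zero, mul_one, add_zero, z2],
          by rw [hadd, hadd, hpow, hpow, halt, hdc, mul_zero, mul_one, add_zero, z2]⟩, ?_⟩
      rw [hadd, hadd, hpow, hpow, hxy, hs x c, hs x d, hx.2.1, hx.2.2, mul_zero, mul_zero, add_zero,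
        add_zero])
    exact ⟨2 * r, by rw [hcard, hr]; ring⟩

theorem Aniso.card_ne_thirtytwo [Finite E] [Finite A] (h : Aniso q) : Nat.card E ≠ 32 := by
  classical
  intro hE
  have hfull : ∀ a : E, a ≠ 1 → Nat.card A = 4 ∧ Function.Surjective (h.polarHom a) := by
    intro a ha
    have h1 := h.card_le_perp a
    have h2 := h.card_perp_le_eight ha
    have h3 := h.card_range_le a
    have h4 : Nat.card (h.polarHom a).range = 4 := by nlinarith
    have h5 := (h.polarHom a).range.card_le_card_group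
    have h6 := h.card_le
    have h7 : Nat.card A = 4 := by omega
    exact ⟨h7, MonoidHom.range_eq_top.1 (Subgroup.eq_top_of_card_eq _ (by omega))⟩
  haveI : Nontrivial E := Finite.one_lt_card_iff_nontrivial.1 (by omega)
  obtain ⟨a₀, ha₀⟩ := exists_ne (1 : E)
  obtain ⟨hA4, hsurj₀⟩ := hfull a₀ ha₀
  haveI : Nontrivial A := Finite.one_lt_card_iff_nontrivial.1 (by omega)
  obtain ⟨δ, hδ⟩ := exists_ne (1 : A)
  obtain ⟨γ, hγ, hγδ⟩ : ∃ γ : A, γ ≠ 1 ∧ γ ≠ δ := by
    by_contra hno
    push Not at hno
    haveI := Fintype.ofFinite A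
    have : (Finset.univ : Finset A) ⊆ {1, δ} := fun x _ => by
      rw [Finset.mem_insert, Finset.mem_singleton]
      by_cases e : x = 1
      · exact Or.inl e
      · exact Or.inr (hno x e)
    have := (Finset.card_le_card this).trans Finset.card_le_two
    rw [Finset.card_univ, ← Nat.card_eq_fintype_card, hA4] at this
    omega
  have hδγ1 : δ * γ ≠ 1 := fun e => hγδ (by rw [← one_mul γ, ← h.sqA δ, mul_assoc, e, mul_one])
  have hδγ2 : δ * γ ≠ δ := fun e => hγ (mul_eq_left.1 e)
  have hδγ3 : δ * γ ≠ γ := fun e => hδ (mul_eq_right.1 e)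
  have hcA : ∀ x y : A, x * (x * y) = y := fun x y => by rw [← mul_assoc, h.sqA, one_mul]
  let μ : A → ZMod 2 := fun x => if x = 1 ∨ x = δ then 0 else 1
  have hμ : ∀ x y : A, μ (x * y) = μ x + μ y := by
    intro x y
    rcases h.values hδ hγ hγδ x with ex | ex | ex | ex <;>
      rcases h.values hδ hγ hγδ y with ey | ey | ey | ey <;>
      rw [ex, ey] <;>
      simp only [μ, mul_assoc, mul_comm, mul_left_comm, h.sqA, hcA, mul_one, one_mul] <;>
      simp [hδ, hγ, hγδ, hδγ1, hδγ2, hδγ3, Ne.symm hδ, Ne.symm hγ, CharTwo.add_self_eq_zero,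
        fun e : γ * δ = 1 => hδγ1 (by rw [mul_comm]; exact e)]
  have := square_card_of_nondeg h.sqE (fun x y => μ (polarForm q x y))
    (fun x y z => by simp only [h.polar_mul, hμ]) (fun x y => by simp only [polar_comm x y])
    (fun x => by simp [μ, h.polar_self]) 32 ⊤ (by rw [Subgroup.card_top, hE]) (fun c _ hc => by
      obtain ⟨d, hd⟩ := (hfull c hc).2 γ
      refine ⟨d, trivial, ?_⟩
      show μ (polarForm q c d) = 1
      rw [show polarForm q c d = γ from hd]
      simp [μ, hγ, hγδ])
  obtain ⟨r, hr⟩ := this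
  have : r < 6 := by nlinarith
  interval_cases r <;> omega

/-- Restriction of automorphisms to an invariant set. -/
def permOn {G : Type*} [Group G] {S : Set G} (Γ : Subgroup (MulAut G))
    (hS : ∀ σ ∈ Γ, ∀ x ∈ S, σ x ∈ S) : Γ →* Equiv.Perm S where
  toFun σ :=
    { toFun := fun x => ⟨(σ : MulAut G) x, hS _ σ.2 _ x.2⟩
      invFun := fun x => ⟨((σ⁻¹ : Γ) : MulAut G) x, hS _ (σ⁻¹ : Γ).2 _ x.2⟩
      left_inv := fun x => Subtype.ext (by simp)
      right_inv := fun x => Subtype.ext (by simp) }
  map_one' := by ext; simp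
  map_mul' σ τ := by ext; simp

theorem permOn_apply {G : Type*} [Group G] {S : Set G} (Γ : Subgroup (MulAut G))
    (hS : ∀ σ ∈ Γ, ∀ x ∈ S, σ x ∈ S) (σ : Γ) (x : S) :
    ((permOn Γ hS σ x : S) : G) = (σ : MulAut G) x := rfl

theorem Aniso.polar_map (h : Aniso q) {σ : MulAut E} (hσ : ∀ x, q (σ x) = q x) (x y : E) :
    polarForm q (σ x) (σ y) = polarForm q x y := by
  simp only [polarForm, ← map_mul, hσ]

theorem Aniso.stabilizer_solvable [Finite E] [Finite A] (h : Aniso q) (Γ : Subgroup (MulAut E))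
    (hinv : ∀ σ ∈ Γ, ∀ x, q (σ x) = q x) {a : E} (ha : a ≠ 1) (hfix : ∀ σ ∈ Γ, σ a = a) :
    Group.IsSolvable Γ := by
  -- an element fixing `a^⊥` pointwise is determined by a map into `a^⊥`
  have key : ∀ Δ : Subgroup (MulAut E), Δ ≤ Γ → (∀ σ ∈ Δ, ∀ k ∈ h.perp a, σ k = k) →
      Group.IsSolvable Δ := by
    intro Δ hΔ hk
    have hin : ∀ σ ∈ Δ, ∀ x, σ x * x ∈ h.perp a := by
      intro σ hσ x
      rw [h.mem_perp, h.polar_mul]
      have := h.polar_map (hinv σ (hΔ hσ)) a x
      rw [hfix σ (hΔ hσ)] at this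
      rw [this, h.sqA]
    let f : Δ →* (E → E) :=
      { toFun := fun σ x => (σ : MulAut E) x * x
        map_one' := by funext x; simpa using h.sqE x
        map_mul' := by
          intro σ τ
          funext x
          show (σ : MulAut E) ((τ : MulAut E) x) * x = _ * x * ((τ : MulAut E) x * x)
          have h1 := hk _ σ.2 _ (hin _ τ.2 x)
          rw [map_mul] at h1
          calc (σ : MulAut E) ((τ : MulAut E) x) * x
              = ((σ : MulAut E) ((τ : MulAut E) x) * (σ : MulAut E) x) * ((σ : MulAut E) x * x) := by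
                rw [mul_assoc, ← mul_assoc ((σ : MulAut E) x), h.sqE, one_mul]
            _ = ((τ : MulAut E) x * x) * ((σ : MulAut E) x * x) := by rw [h1]
            _ = _ := mul_comm _ _ }
    haveI : IsMulCommutative (E → E) := ⟨⟨mul_comm⟩⟩
    exact Group.isSolvable_of_isSolvable_injective (f := f) (fun σ τ e => Subtype.ext
      (MulEquiv.ext fun x => mul_right_cancel (congrFun e x)))
  by_cases hg : ∃ γ : A, γ ≠ 1 ∧ γ ≠ q a
  · obtain ⟨γ, hγ, hne⟩ := hg
    have hS : ∀ σ ∈ Γ, ∀ x ∈ h.slice a γ, σ x ∈ h.slice a γ := by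
      intro σ hσ x hx
      refine ⟨?_, by rw [hinv σ hσ]; exact hx.2⟩
      have := h.polar_map (hinv σ hσ) a x
      rw [hfix σ hσ, h.mem_perp.1 hx.1] at this
      exact h.mem_perp.2 this
    refine solvable_of_hom (permOn Γ hS) (solvable_perm_small (by
      have := h.slice_le ha hγ hne; omega)) ?_
    haveI := key (((permOn Γ hS).ker).map Γ.subtype) (Subgroup.map_subtype_le _) (by
      rintro σ ⟨τ, hτ, rfl⟩ k hk
      rcases h.perp_subset ha hγ hne hk with e | e | e | e
      · simp [e]
      · rw [e]; exact hfix _ τ.2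
      · exact congrArg Subtype.val (DFunLike.congr_fun (MonoidHom.mem_ker.1 hτ) ⟨k, e⟩)
      · have h1 : (τ : MulAut E) (a * k) = a * k :=
          congrArg Subtype.val (DFunLike.congr_fun (MonoidHom.mem_ker.1 hτ) (⟨a * k, e⟩ : h.slice a γ))
        rw [map_mul, hfix _ τ.2] at h1
        exact mul_left_cancel h1)
    exact Group.isSolvable_of_isSolvable_injective
      (f := ((permOn Γ hS).ker.equivMapOfInjective _ Γ.subtype_injective).toMonoidHom)
      (MulEquiv.injective _)
  · push Not at hg
    refine key Γ le_rfl fun σ hσ k hk => ?_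
    by_cases h1 : k = 1
    · simp [h1]
    by_cases h2 : k = a
    · rw [h2]; exact hfix σ hσ
    exact absurd (hg _ (h.q_ne_one h1)) (h.perp_q_ne hk h2)

/-- An invariant set of at most four elements, one of them nontrivial, suffices. -/
theorem Aniso.solvable_of_small [Finite E] [Finite A] (h : Aniso q) (Γ : Subgroup (MulAut E))
    (hinv : ∀ σ ∈ Γ, ∀ x, q (σ x) = q x) {S : Set E} (hS : ∀ σ ∈ Γ, ∀ x ∈ S, σ x ∈ S)
    {a : E} (ha : a ∈ S) (ha1 : a ≠ 1) (hsol : Group.IsSolvable (permOn Γ hS).range) :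
    Group.IsSolvable Γ := by
  refine solvable_of_hom (permOn Γ hS).rangeRestrict hsol ?_
  rw [MonoidHom.ker_rangeRestrict]
  haveI := h.stabilizer_solvable (((permOn Γ hS).ker).map Γ.subtype)
    (fun σ hσ => hinv σ (Subgroup.map_subtype_le _ hσ)) ha1 (by
      rintro σ ⟨τ, hτ, rfl⟩
      exact congrArg Subtype.val (DFunLike.congr_fun (MonoidHom.mem_ker.1 hτ) (⟨a, ha⟩ : S)))
  exact Group.isSolvable_of_isSolvable_injective
    (f := ((permOn Γ hS).ker.equivMapOfInjective _ Γ.subtype_injective).toMonoidHom)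
    (MulEquiv.injective _)

theorem Aniso.isometry_solvable [Finite E] [Finite A] (h : Aniso q) (Γ : Subgroup (MulAut E))
    (hinv : ∀ σ ∈ Γ, ∀ x, q (σ x) = q x) : Group.IsSolvable Γ := by
  classical
  haveI := Fintype.ofFinite E
  haveI := Fintype.ofFinite A
  by_contra hns
  have small : ∀ S : Set E, (∀ σ ∈ Γ, ∀ x ∈ S, σ x ∈ S) → ∀ a ∈ S, a ≠ 1 → 5 ≤ Nat.card S := by
    intro S hS a ha ha1
    by_contra hcon
    refine hns (h.solvable_of_small Γ hinv hS ha ha1 ?_)
    haveI := solvable_perm_small (α := S) (by omega)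
    infer_instance
  haveI hnt : Nontrivial E := by
    by_contra hcon
    rw [not_nontrivial_iff_subsingleton] at hcon
    exact hns (by
      haveI : Subsingleton Γ := ⟨fun σ τ => Subtype.ext (MulEquiv.ext fun x => Subsingleton.elim _ _)⟩
      exact Group.isSolvable_of_comm fun σ τ => Subsingleton.elim _ _)
  let fib : A → Finset E := fun α => Finset.univ.filter fun x => q x = α
  have hfib : ∀ x : E, x ≠ 1 → 5 ≤ (fib (q x)).card := by
    intro x hx
    have h5 := small (fib (q x) : Set E) (fun σ hσ y hy => by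
      simp only [fib, Finset.coe_filter, Finset.mem_univ, true_and, Set.mem_setOf_eq] at hy ⊢
      rw [hinv σ hσ]; exact hy) x (by simp [fib]) hx
    rwa [Nat.card_coe_set_eq, Set.ncard_coe_finset] at h5
  -- the order of `E` is at most sixteen
  have hE16 : Nat.card E ≤ 16 := by
    obtain ⟨a, ha⟩ := exists_ne (1 : E)
    have hle : Nat.card E ≤ 32 := by
      have := h.card_le_perp a
      have := h.card_perp_le_eight ha
      have := h.card_range_le a
      nlinarith
    have h2 : IsPGroup 2 E := fun x => ⟨1, by rw [pow_one, sq]; exact h.sqE x⟩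
    haveI : Fact (Nat.Prime 2) := ⟨Nat.prime_two⟩
    obtain ⟨n, hn⟩ := h2.exists_card_eq
    have : n ≤ 5 := by
      by_contra hcon
      have : 2 ^ 6 ≤ 2 ^ n := Nat.pow_le_pow_right (by norm_num) (by omega)
      omega
    have := h.card_ne_thirtytwo
    interval_cases n <;> omega
  -- all three nontrivial values occur
  have hthree : ∀ a : E, a ≠ 1 → ∀ γ : A, γ ≠ 1 → γ ≠ q a → (fib γ).card = 5 ∧ (fib (q a)).card = 5 := by
    have hsmallE : ∀ a : E, a ≠ 1 → ¬ ∀ x : E, x ≠ 1 → q x = q a := by
      intro a ha hall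
      have hperp : Nat.card (h.perp a) ≤ 2 := by
        have hsub : (h.perp a : Set E) ⊆ {1, a} := by
          intro k hk
          by_cases h1 : k = 1
          · simp [h1]
          · right
            by_contra h2
            exact h.perp_q_ne hk h2 (hall k h1)
        rw [← SetLike.coe_sort_coe, Nat.card_coe_set_eq]
        exact (Set.ncard_le_ncard hsub).trans ((Set.ncard_insert_le _ _).trans (by rw [Set.ncard_singleton]))
      have hrange : Nat.card (h.polarHom a).range ≤ 2 := by
        have hsub : ((h.polarHom a).range : Set A) ⊆ {1, q a} := by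
          rintro _ ⟨x, rfl⟩
          show polarForm q a x ∈ _
          have hv : ∀ y : E, q y = 1 ∨ q y = q a := fun y => by
            by_cases e : y = 1
            · left; rw [e, h.one]
            · right; exact hall y e
          rcases hv (a * x) with e1 | e1 <;> rcases hv x with e2 | e2 <;>
            simp [polarForm, e1, e2, h.sqA]
        rw [← SetLike.coe_sort_coe, Nat.card_coe_set_eq]
        exact (Set.ncard_le_ncard hsub).trans ((Set.ncard_insert_le _ _).trans (by rw [Set.ncard_singleton]))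
      have := h.card_le_perp a
      have h5 := hfib a ha
      have := Finset.card_le_univ (fib (q a))
      rw [← Nat.card_eq_fintype_card] at this
      nlinarith
    intro a ha γ hγ hne
    have hdis : ∀ α β : A, α ≠ β → Disjoint (fib α) (fib β) := fun α β hab =>
      Finset.disjoint_left.2 fun x h1 h2 => by
        simp only [fib, Finset.mem_filter] at h1 h2
        exact hab (h1.2.symm.trans h2.2)
    have hone : 1 ∈ fib 1 := by simp [fib, h.one]
    have hocc : ∀ δ : A, δ ≠ 1 → δ ≠ q a → ∃ x : E, x ≠ 1 ∧ q x = δ := by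
      intro δ hδ1 hδa
      by_contra hno
      push Not at hno
      have hempty : Nat.card (h.slice a δ) = 0 := by
        rw [Nat.card_eq_zero]; left
        exact ⟨fun k => hno k (fun e => hδ1 (by rw [← k.2.2, e, h.one])) k.2.2⟩
      have hc := h.card_perp_le ha hδ1 hδa
      have h8 : Nat.card E ≤ 8 := by
        have := h.card_le_perp a
        have := h.card_range_le a
        nlinarith
      obtain ⟨x, hx1, hxne⟩ : ∃ x : E, x ≠ 1 ∧ q x ≠ q a := by
        by_contra hh
        push Not at hh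
        exact hsmallE a ha hh
      have hu := Finset.card_le_univ (fib (q a) ∪ fib (q x))
      rw [Finset.card_union_of_disjoint (hdis _ _ (Ne.symm hxne)), ← Nat.card_eq_fintype_card] at hu
      have := hfib a ha
      have := hfib x hx1
      omega
    have hαγ1 : q a * γ ≠ 1 := fun e => hne (by
      rw [← one_mul γ, ← h.sqA (q a), mul_assoc, e, mul_one])
    have hαγ2 : q a * γ ≠ q a := fun e => hγ (mul_eq_left.1 e)
    have hαγ3 : q a * γ ≠ γ := fun e => h.q_ne_one ha (mul_eq_right.1 e)
    obtain ⟨x, hx1, hx⟩ := hocc γ hγ hne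
    obtain ⟨y, hy1, hy⟩ := hocc (q a * γ) hαγ1 hαγ2
    have f1 := hfib a ha
    have f2 := hfib x hx1
    have f3 := hfib y hy1
    rw [hx] at f2
    rw [hy] at f3
    have hd1 := hdis (q a) γ (Ne.symm hne)
    have hd2 : Disjoint (fib (q a) ∪ fib γ) (fib (q a * γ)) :=
      Finset.disjoint_union_left.2 ⟨hdis _ _ (Ne.symm hαγ2), hdis _ _ (Ne.symm hαγ3)⟩
    have hd3 : (1 : E) ∉ fib (q a) ∪ fib γ ∪ fib (q a * γ) := by
      simp [fib, h.one, Ne.symm (h.q_ne_one ha), Ne.symm hγ, Ne.symm hαγ1]
    have hu := Finset.card_le_univ (insert (1 : E) (fib (q a) ∪ fib γ ∪ fib (q a * γ)))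
    rw [Finset.card_insert_of_notMem hd3, Finset.card_union_of_disjoint hd2,
      Finset.card_union_of_disjoint hd1, ← Nat.card_eq_fintype_card] at hu
    omega
  obtain ⟨a, ha⟩ := exists_ne (1 : E)
  set α := q a with hα
  have hα1 : α ≠ 1 := h.q_ne_one ha
  -- some other value occurs
  set F := fib α with hFdef
  have hmemF : ∀ {x : E}, x ∈ F ↔ q x = α := by simp [F, fib]
  have haF : a ∈ F := hmemF.2 hα.symm
  have hne1 : ∀ {x : E}, x ∈ F → x ≠ 1 := fun {x} hx e => hα1 (by rw [← hmemF.1 hx, e, h.one])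
  have hFinv : ∀ σ ∈ Γ, ∀ x ∈ (F : Set E), σ x ∈ (F : Set E) := fun σ hσ x hx => by
    rw [Finset.mem_coe, hmemF, hinv σ hσ]; exact hmemF.1 hx
  have hpol : ∀ {x y : E}, x ∈ F → y ∈ F → polarForm q x y = q (x * y) := fun {x y} hx hy => by
    rw [polarForm, hmemF.1 hx, hmemF.1 hy, mul_assoc, h.sqA, mul_one]
  have hF5 : F.card = 5 := by
    by_cases hg : ∃ γ : A, γ ≠ 1 ∧ γ ≠ α
    · obtain ⟨γ, hγ, hne⟩ := hg
      exact (hthree a ha γ hγ hne).2
    · exfalso
      push Not at hg
      have := h.card_perp_le_two ha (fun γ => by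
        by_cases e : γ = 1
        · exact Or.inl e
        · exact Or.inr (hg γ e))
      have hA2 : Nat.card A ≤ 2 := by
        rw [Nat.card_eq_fintype_card, ← Finset.card_univ]
        refine (Finset.card_le_card (t := {1, α}) fun γ _ => ?_).trans Finset.card_le_two
        by_cases e : γ = 1
        · simp [e]
        · simp [hg γ e]
      have := h.card_le_perp a
      have := (h.polarHom a).range.card_le_card_group
      have h5 := hfib a ha
      have := Finset.card_le_univ (fib (q a))
      rw [← Nat.card_eq_fintype_card] at this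
      nlinarith
  -- transitivity on the fibre
  have htrans : ∀ x ∈ F, ∃ σ ∈ Γ, σ a = x := by
    intro x hx
    have hO : ({y | ∃ σ ∈ Γ, σ a = y} : Set E) ⊆ (F : Set E) := by
      rintro _ ⟨σ, hσ, rfl⟩
      exact hFinv σ hσ a haF
    have h5 := small {y | ∃ σ ∈ Γ, σ a = y} (by
      rintro σ hσ _ ⟨τ, hτ, rfl⟩
      exact ⟨σ * τ, mul_mem hσ hτ, rfl⟩) a ⟨1, one_mem _, rfl⟩ ha
    rw [Nat.card_coe_set_eq] at h5
    have := Set.eq_of_subset_of_ncard_le hO (by rw [Set.ncard_coe_finset, hF5]; exact h5)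
    have hx' : x ∈ (F : Set E) := hx
    rw [← this] at hx'
    exact hx'
  -- the colour classes seen from a vertex
  let deg : E → A → ℕ := fun x w => (F.filter fun y => y ≠ x ∧ polarForm q x y = w).card
  have hdeg : ∀ x ∈ F, ∀ w, deg x w = deg a w := by
    intro x hx w
    obtain ⟨σ, hσ, rfl⟩ := htrans x hx
    refine Finset.card_bij' (fun y _ => σ⁻¹ y) (fun y _ => σ y) ?_ ?_ (fun y _ => by simp) (fun y _ => by simp)
    · intro y hy
      simp only [Finset.mem_filter] at hy ⊢
      refine ⟨hFinv _ (inv_mem hσ) _ hy.1, fun e => hy.2.1 (by rw [← e]; simp), ?_⟩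
      rw [← hy.2.2, ← h.polar_map (hinv σ hσ) a (σ⁻¹ y)]; simp
    · intro y hy
      simp only [Finset.mem_filter] at hy ⊢
      exact ⟨hFinv _ hσ _ hy.1, fun e => hy.2.1 (σ.injective e),
        by rw [h.polar_map (hinv σ hσ)]; exact hy.2.2⟩
  -- colour classes have even size
  have heven : ∀ w, Even (deg a w) := by
    intro w
    have hsum : (5 : ZMod 2) * (deg a w : ZMod 2) = 0 := by
      have h1 : ∑ x ∈ F, (deg x w : ZMod 2) = 5 * (deg a w : ZMod 2) := by
        rw [Finset.sum_congr rfl (fun x hx => by rw [hdeg x hx w]), Finset.sum_const, hF5, nsmul_eq_mul]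
        norm_num
      rw [← h1]
      have h2 : ∑ x ∈ F, (deg x w : ZMod 2) =
          ∑ p ∈ (F ×ˢ F).filter (fun p => p.2 ≠ p.1 ∧ polarForm q p.1 p.2 = w), (1 : ZMod 2) := by
        rw [Finset.sum_filter (s := F ×ˢ F), Finset.sum_product]
        refine Finset.sum_congr rfl fun x _ => ?_
        rw [← Finset.sum_filter]
        simp [deg]
      rw [h2]
      refine Finset.sum_involution (fun p _ => (p.2, p.1)) (fun p _ => CharTwo.add_self_eq_zero 1)
        (fun p hp _ e => ?_) (fun p hp => ?_) (fun p _ => rfl)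
      · simp only [Finset.mem_filter] at hp
        exact hp.2.1 (congrArg Prod.fst e)
      · simp only [Finset.mem_filter, Finset.mem_product] at hp ⊢
        exact ⟨⟨hp.1.2, hp.1.1⟩, Ne.symm hp.2.1, by rw [polar_comm]; exact hp.2.2⟩
    rw [show (5 : ZMod 2) = 1 by decide, one_mul, ZMod.natCast_eq_zero_iff_even] at hsum
    exact hsum
  have hFa : (F.erase a).card = 4 := by rw [Finset.card_erase_of_mem haF, hF5]
  by_cases hconst : ∃ w, deg a w = 4
  · -- a constant colour is impossible
    obtain ⟨w, hw⟩ := hconst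
    have hall : ∀ x ∈ F, ∀ y ∈ F, y ≠ x → q (x * y) = w := by
      intro x hx y hy hyx
      have hfx : (F.filter fun y => y ≠ x ∧ polarForm q x y = w) = F.erase x := by
        refine Finset.eq_of_subset_of_card_le (fun z hz => ?_) ?_
        · simp only [Finset.mem_filter] at hz
          exact Finset.mem_erase.2 ⟨hz.2.1, hz.1⟩
        · have h4 : deg x w = 4 := by rw [hdeg x hx w, hw]
          rw [Finset.card_erase_of_mem hx, hF5]
          exact h4.ge
      have hy' : y ∈ F.erase x := Finset.mem_erase.2 ⟨hyx, hy⟩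
      rw [← hfx, Finset.mem_filter] at hy'
      rw [← hpol hx hy]; exact hy'.2.2
    have hcA : ∀ x y : A, x * (x * y) = y := fun x y => by rw [← mul_assoc, h.sqA, one_mul]
    have htri : ∀ x ∈ F, ∀ y ∈ F, ∀ z ∈ F, y ≠ x → z ≠ x → z ≠ y → q (x * y * z) = w * α := by
      intro x hx y hy z hz h1 h2 h3
      rw [h.cubic, hall x hx y hy h1, hall x hx z hz h2, hall y hy z hz h3, hmemF.1 hx, hmemF.1 hy,
        hmemF.1 hz]
      simp only [mul_assoc, mul_comm, mul_left_comm, h.sqA, hcA, mul_one]
    obtain ⟨b, c, d, e, hbcde⟩ : ∃ b c d e, F.erase a = {b, c, d, e} ∧ b ≠ c ∧ b ≠ d ∧ b ≠ e ∧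
        c ≠ d ∧ c ≠ e ∧ d ≠ e := by
      obtain ⟨b, t, hb, ht, ht3⟩ := Finset.card_eq_succ.1 hFa
      obtain ⟨c, d, e, hcd, hce, hde, rfl⟩ := Finset.card_eq_three.1 ht3
      simp only [Finset.mem_insert, Finset.mem_singleton, not_or] at hb
      exact ⟨b, c, d, e, ht.symm, hb.1, hb.2.1, hb.2.2, hcd, hce, hde⟩
    obtain ⟨hset, hbc, hbd, hbe, hcd, hce, hde⟩ := hbcde
    have mb : b ∈ F ∧ b ≠ a := And.symm (Finset.mem_erase.1 (by rw [hset]; simp))
    have mc : c ∈ F ∧ c ≠ a := And.symm (Finset.mem_erase.1 (by rw [hset]; simp))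
    have md : d ∈ F ∧ d ≠ a := And.symm (Finset.mem_erase.1 (by rw [hset]; simp))
    have me : e ∈ F ∧ e ≠ a := And.symm (Finset.mem_erase.1 (by rw [hset]; simp))
    by_cases hwα : w = α
    · have h1 := h.eq_one _ (by rw [htri a haF b mb.1 c mc.1 mb.2 mc.2 hbc.symm, hwα, h.sqA])
      have h2 := h.eq_one _ (by rw [htri a haF b mb.1 d md.1 mb.2 md.2 hbd.symm, hwα, h.sqA])
      exact hcd (mul_left_cancel (h1.trans h2.symm))
    · have hw1 : w ≠ 1 := fun e' => by
        have := h.eq_one _ (hall a haF b mb.1 mb.2 ▸ e')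
        exact mb.2 (by rw [← inv_eq_of_mul_eq_one_right this, h.inv_eq])
      have hnot : ∀ x ∈ F, ∀ y ∈ F, ∀ z ∈ F, ∀ t ∈ F, y ≠ x → z ≠ x → z ≠ y → x * t ≠ y * z := by
        intro x hx y hy z hz t ht h1 h2 h3 he
        have heq : x * y * z = t := by rw [mul_assoc, ← he, ← mul_assoc, h.sqE, one_mul]
        have := htri x hx y hy z hz h1 h2 h3
        rw [heq, hmemF.1 ht] at this
        exact hw1 (mul_eq_right.1 this.symm)
      have hsub : ({a * b, a * c, a * d, a * e, b * c, b * d} : Finset E) ⊆ fib w := by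
        intro x hx
        simp only [Finset.mem_insert, Finset.mem_singleton] at hx
        simp only [fib, Finset.mem_filter, Finset.mem_univ, true_and]
        rcases hx with rfl | rfl | rfl | rfl | rfl | rfl
        · exact hall a haF b mb.1 mb.2
        · exact hall a haF c mc.1 mc.2
        · exact hall a haF d md.1 md.2
        · exact hall a haF e me.1 me.2
        · exact hall b mb.1 c mc.1 hbc.symm
        · exact hall b mb.1 d md.1 hbd.symm
      have hk : ∀ {u v : E}, u ≠ v → a * u ≠ a * v := fun huv e' => huv (mul_left_cancel e')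
      have hb' : ∀ t ∈ F, a * t ≠ b * c := fun t ht => hnot a haF b mb.1 c mc.1 t ht mb.2 mc.2 hbc.symm
      have hb'' : ∀ t ∈ F, a * t ≠ b * d := fun t ht => hnot a haF b mb.1 d md.1 t ht mb.2 md.2 hbd.symm
      have h6 : ({a * b, a * c, a * d, a * e, b * c, b * d} : Finset E).card = 6 := by
        simp [hk hbc, hk hbd, hk hbe, hk hcd, hk hce, hk hde, hb' b mb.1, hb' c mc.1, hb' d md.1,
          hb' e me.1, hb'' b mb.1, hb'' c mc.1, hb'' d md.1, hb'' e me.1, hcd]
      have := Finset.card_le_card hsub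
      rw [h6, (hthree a ha w hw1 hwα).1] at this
      omega
  · -- otherwise the image on the fibre is small
    push Not at hconst
    have hdle : ∀ w, deg a w ≤ 4 := fun w => hFa ▸ Finset.card_le_card (fun z hz => by
      simp only [Finset.mem_filter] at hz
      exact Finset.mem_erase.2 ⟨hz.2.1, hz.1⟩)
    obtain ⟨b, hb⟩ := Finset.card_pos.1 (by omega : 0 < (F.erase a).card)
    set w := polarForm q a b with hw
    have hP2 : deg a w = 2 := by
      have h1 : 0 < deg a w := Finset.card_pos.2 ⟨b, by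
        simp only [Finset.mem_filter]
        exact ⟨(Finset.mem_erase.1 hb).2, (Finset.mem_erase.1 hb).1, hw.symm⟩⟩
      obtain ⟨k, hk⟩ := heven w
      have := hdle w
      have := hconst w
      omega
    obtain ⟨p₁, p₂, hp12, hP⟩ := Finset.card_eq_two.1 hP2
    set P := F.filter fun y => y ≠ a ∧ polarForm q a y = w with hPdef
    have hPsub : P ⊆ F.erase a := fun z hz => by
      simp only [P, Finset.mem_filter] at hz
      exact Finset.mem_erase.2 ⟨hz.2.1, hz.1⟩
    have hQ2 : (F.erase a \ P).card = 2 := by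
      rw [Finset.card_sdiff_of_subset hPsub, hFa, hP, Finset.card_pair hp12]
    obtain ⟨q₁, q₂, hq12, hQ⟩ := Finset.card_eq_two.1 hQ2
    let ρ := permOn Γ hFinv
    let a' : (F : Set E) := ⟨a, haF⟩
    refine hns (h.solvable_of_small Γ hinv hFinv (a := a) haF ha ?_)
    -- orbit-stabiliser in the image
    let φ : ρ.range → (F : Set E) := fun π => (π : Equiv.Perm (F : Set E)) a'
    have hcard : Nat.card ρ.range ≤ 20 ∧ 5 ∣ Nat.card ρ.range := by
      have hst : Nat.card (MulAction.stabilizer ρ.range a') * 5 = Nat.card ρ.range := by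
        have hsurj : MulAction.orbit ρ.range a' = Set.univ := by
          ext ⟨x, hx⟩
          simp only [Set.mem_univ, iff_true]
          obtain ⟨σ, hσ, hσx⟩ := htrans x hx
          exact ⟨⟨ρ ⟨σ, hσ⟩, ⟨_, rfl⟩⟩, Subtype.ext hσx⟩
        have := MulAction.index_stabilizer ρ.range a'
        rw [hsurj, Set.ncard_univ, Nat.card_coe_set_eq, Set.ncard_coe_finset, hF5] at this
        rw [← this, Subgroup.card_mul_index]
      refine ⟨?_, Dvd.intro_left _ hst⟩
      have h4 : Nat.card (MulAction.stabilizer ρ.range a') ≤ 4 := by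
        have hp1 : p₁ ∈ F := Finset.mem_of_mem_filter p₁ (by rw [← hPdef, hP]; simp)
        have hq1 : q₁ ∈ F := Finset.mem_of_mem_erase (Finset.sdiff_subset (by rw [hQ]; simp : q₁ ∈ F.erase a \ P))
        let ψ : MulAction.stabilizer ρ.range a' → Bool × Bool := fun π =>
          (decide (((((π : ρ.range) : Equiv.Perm (F : Set E)) ⟨p₁, hp1⟩ : (F : Set E)) : E) = p₁),
           decide (((((π : ρ.range) : Equiv.Perm (F : Set E)) ⟨q₁, hq1⟩ : (F : Set E)) : E) = q₁))
        refine (Nat.card_le_card_of_injective ψ ?_).trans (by simp [Nat.card_prod])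
        -- every stabilising element permutes `P` and its complement
        have hkeep : ∀ π : MulAction.stabilizer ρ.range a', ∀ y : (F : Set E),
            ((((π : ρ.range) : Equiv.Perm (F : Set E)) y : (F : Set E)) : E) ∈ P ↔ (y : E) ∈ P := by
          intro π y
          obtain ⟨σ, hσ⟩ := (π : ρ.range).2
          have hσa : (σ : MulAut E) a = a := by
            have h0 : ((π : ρ.range) : Equiv.Perm (F : Set E)) a' = a' := π.2
            rw [← hσ] at h0
            exact congrArg Subtype.val h0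
          rw [← hσ]
          show (σ : MulAut E) y ∈ P ↔ _
          simp only [P, Finset.mem_filter]
          have hp := h.polar_map (hinv _ σ.2) a (y : E)
          rw [hσa] at hp
          have hy : (y : E) ∈ F := y.2
          refine ⟨fun hh => ⟨hy, fun e => hh.2.1 (by rw [e, hσa]), hp ▸ hh.2.2⟩, fun hh =>
            ⟨hFinv _ σ.2 _ hy, fun e => hh.2.1 ((σ : MulAut E).injective (e.trans hσa.symm)), hp.trans hh.2.2⟩⟩
        intro π π' he
        simp only [ψ, Prod.mk.injEq, decide_eq_decide] at he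
        refine Subtype.ext (Subtype.ext (Equiv.ext fun y => ?_))
        have hfix : ∀ π : MulAction.stabilizer ρ.range a',
            ((π : ρ.range) : Equiv.Perm (F : Set E)) a' = a' := fun π => π.2
        by_cases hya : y = a'
        · rw [hya, hfix π, hfix π']
        have hPQ : ∀ z : (F : Set E), z ≠ a' → ((z : E) = p₁ ∨ (z : E) = p₂) ∨ ((z : E) = q₁ ∨ (z : E) = q₂) := by
          intro z hz
          have hz' : (z : E) ∈ F.erase a := Finset.mem_erase.2 ⟨fun e => hz (Subtype.ext e), z.2⟩
          by_cases hzP : (z : E) ∈ P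
          · rw [hP] at hzP; simp at hzP; exact Or.inl hzP
          · have : (z : E) ∈ F.erase a \ P := Finset.mem_sdiff.2 ⟨hz', hzP⟩
            rw [hQ] at this; simp at this; exact Or.inr this
        set g := ((π : ρ.range) : Equiv.Perm (F : Set E))
        set g' := ((π' : ρ.range) : Equiv.Perm (F : Set E))
        have hnP : ∀ z : E, z = q₁ ∨ z = q₂ → z ∉ P := fun z hz => by
          have : z ∈ F.erase a \ P := by rw [hQ]; simpa using hz
          exact (Finset.mem_sdiff.1 this).2
        have hP' : ∀ z : E, z ∈ P ↔ z = p₁ ∨ z = p₂ := fun z => by rw [hP]; simp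
        have move : ∀ gg : MulAction.stabilizer ρ.range a', ∀ z : (F : Set E), z ≠ a' →
            ((gg : ρ.range) : Equiv.Perm (F : Set E)) z ≠ a' := fun gg z hz e =>
          hz (Equiv.injective _ (e.trans (hfix gg).symm))
        have two : ∀ {u v z z' : E}, (z = u ∨ z = v) → (z' = u ∨ z' = v) → (z = u ↔ z' = u) → z = z' := by
          intro u v z z' h1 h2 h3
          rcases h1 with h1 | h1 <;> rcases h2 with h2 | h2
          · exact h1.trans h2.symm
          · exact h1.trans (h3.1 h1).symm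
          · exact (h3.2 h2).trans h2.symm
          · exact h1.trans h2.symm
        have imgP : ∀ gg : MulAction.stabilizer ρ.range a', ∀ z : (F : Set E), ((z : E) = p₁ ∨ (z : E) = p₂) →
            ((((gg : ρ.range) : Equiv.Perm (F : Set E)) z : (F : Set E)) : E) = p₁ ∨
            ((((gg : ρ.range) : Equiv.Perm (F : Set E)) z : (F : Set E)) : E) = p₂ := fun gg z hz =>
          (hP' _).1 ((hkeep gg z).2 ((hP' _).2 hz))
        have imgQ : ∀ gg : MulAction.stabilizer ρ.range a', ∀ z : (F : Set E), ((z : E) = q₁ ∨ (z : E) = q₂) →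
            ((((gg : ρ.range) : Equiv.Perm (F : Set E)) z : (F : Set E)) : E) = q₁ ∨
            ((((gg : ρ.range) : Equiv.Perm (F : Set E)) z : (F : Set E)) : E) = q₂ := fun gg z hz => by
          refine (hPQ _ (move gg z (fun e => ?_))).resolve_left fun hh => hnP _ hz ((hkeep gg z).1 ((hP' _).2 hh))
          have hz' : (z : E) ∈ F.erase a \ P := by rw [hQ]; simpa using hz
          exact (Finset.mem_erase.1 (Finset.mem_sdiff.1 hz').1).1 (by rw [e])
        have hfirst : g ⟨p₁, hp1⟩ = g' ⟨p₁, hp1⟩ :=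
          Subtype.ext (two (imgP π _ (Or.inl rfl)) (imgP π' _ (Or.inl rfl)) he.1)
        have hfirstq : g ⟨q₁, hq1⟩ = g' ⟨q₁, hq1⟩ :=
          Subtype.ext (two (imgQ π _ (Or.inl rfl)) (imgQ π' _ (Or.inl rfl)) he.2)
        -- the second point of each pair is then forced
        have second : ∀ {u v : E}, ∀ x₀ z : (F : Set E), (x₀ : E) = u → (z : E) ≠ u →
            ((g z : E) = u ∨ (g z : E) = v) → ((g' z : E) = u ∨ (g' z : E) = v) →
            ((g x₀ : E) = u ∨ (g x₀ : E) = v) → g x₀ = g' x₀ → g z = g' z := by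
          intro u v x₀ z hx₀ hz hgz hgz' hgx he'
          have hzx : z ≠ x₀ := fun e => hz (by rw [e, hx₀])
          have d1 : (g z : E) ≠ g x₀ := fun e => hzx (g.injective (Subtype.ext e))
          have d2 : (g' z : E) ≠ g x₀ := fun e => hzx (g'.injective ((Subtype.ext e).trans he'))
          apply Subtype.ext
          rcases hgx with hh | hh <;> rw [hh] at d1 d2
          · rw [hgz.resolve_left d1, hgz'.resolve_left d2]
          · rw [hgz.resolve_right d1, hgz'.resolve_right d2]
        rcases hPQ y hya with hy | hy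
        · by_cases e : (y : E) = p₁
          · rw [show y = ⟨p₁, hp1⟩ from Subtype.ext e]; exact hfirst
          · exact second _ _ rfl e (imgP π y hy) (imgP π' y hy) (imgP π _ (Or.inl rfl)) hfirst
        · by_cases e : (y : E) = q₁
          · rw [show y = ⟨q₁, hq1⟩ from Subtype.ext e]; exact hfirstq
          · exact second _ _ rfl e (imgQ π y hy) (imgQ π' y hy) (imgQ π _ (Or.inl rfl)) hfirstq
      omega
    obtain ⟨h20, m, hm⟩ := hcard
    have : m ≤ 4 := by omega
    have hpos : 0 < Nat.card ρ.range := Nat.card_pos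
    have h23 : ∀ r : ℕ, r.Prime → r ∣ Nat.card ρ.range → r = 5 ∨ r = (if m = 3 then 3 else 2) := by
      intro r hr hd
      rw [hm, hr.dvd_mul, Nat.prime_dvd_prime_iff_eq hr (by norm_num)] at hd
      rcases hd with e | e
      · exact Or.inl e
      · right
        have h1 := Nat.le_of_dvd (by omega) e
        have h4 : r ≠ 4 := by rintro rfl; norm_num at hr
        have := hr.two_le
        interval_cases m <;> interval_cases r <;> simp_all (config := {decide := true})
    exact Cfsg.Agent.Char.solvable_of_card_eq_pow_mul_pow 5 (if m = 3 then 3 else 2) (by norm_num)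
      (by split <;> norm_num) (Nat.card ρ.range) rfl h23

end Cfsg.Agent.TwoAut
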