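import Cfsg.Agent.TwoAut.OrderFiveBasic

/-!
# A 2-group with an involutory automorphism whose fixed points are permuted transitively

The chain `Cn j` of iterated fixed points and its coordinates in a field.
-/

set_option autoImplicit false
set_option linter.all false

namespace Cfsg.Agent.TwoAut.DeltaChain

open scoped commutatorElement

universe u

/-- An involutory automorphism `α`, an automorphism `ρ` and coordinates `L` of the fixed points
of `α` on which `ρ` is multiplication by a generator of the multiplicative group. -/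
structure Setup (Q : Type u) [Group Q] (F : Type) [Field F] where
  α : MulAut Q
  ρ : MulAut Q
  L : Q → F
  lam : F
  hQ : IsPGroup 2 Q
  invol : ∀ x, α (α x) = x
  comm : ∀ x, α (ρ x) = ρ (α x)
  L_mul : ∀ x y, α x = x → α y = y → L (x * y) = L x + L y
  L_inj : ∀ x, α x = x → L x = 0 → x = 1
  L_rho : ∀ x, α x = x → L (ρ x) = lam * L x
  gen : ∀ t : F, t ≠ 0 → ∃ k : ℕ, lam ^ k = t
  two : (2 : F) = 0
  big : ∃ t : F, t ≠ 0 ∧ t ≠ 1

variable {Q : Type u} [Group Q] [Finite Q] {F : Type} [Field F] (S : Setup Q F)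

/-- The displacement of `α`. -/
def Setup.δ (x : Q) : Q := x⁻¹ * S.α x

theorem Setup.δ_mul (x y : Q) : S.δ (x * y) = y⁻¹ * S.δ x * y * S.δ y := by
  simp only [Setup.δ, map_mul]; group

theorem Setup.δ_one : S.δ 1 = 1 := by simp [Setup.δ]

theorem Setup.α_δ (x : Q) : S.α (S.δ x) = (S.δ x)⁻¹ := by
  simp only [Setup.δ, map_mul, map_inv, S.invol, mul_inv_rev, inv_inv]

theorem Setup.δ_inv (x : Q) : S.δ x⁻¹ = x * (S.δ x)⁻¹ * x⁻¹ := by
  simp only [Setup.δ, map_inv]; group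

theorem Setup.δ_rho (x : Q) : S.δ (S.ρ x) = S.ρ (S.δ x) := by
  simp only [Setup.δ, map_mul, map_inv, S.comm]

theorem Setup.δ_alpha (x : Q) : S.δ (S.α x) = S.α (S.δ x) := by
  simp only [Setup.δ, map_mul, map_inv]

theorem Setup.δ_eq_one {x : Q} : S.δ x = 1 ↔ S.α x = x := by
  simp only [Setup.δ, inv_mul_eq_one]; exact eq_comm

/-- The next term of the chain. -/
def Setup.next (K : {K : Subgroup Q // K.Normal ∧ (∀ x ∈ K, S.α x ∈ K) ∧ (∀ x ∈ K, S.ρ x ∈ K)}) :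
    {K : Subgroup Q // K.Normal ∧ (∀ x ∈ K, S.α x ∈ K) ∧ (∀ x ∈ K, S.ρ x ∈ K)} :=
  ⟨{ carrier := {x | S.δ x ∈ K.1 ∧ ∀ g : Q, ⁅g, x⁆ ∈ K.1}
     one_mem' := ⟨by rw [S.δ_one]; exact one_mem _, fun g => by
      rw [commutatorElement_one_right]; exact one_mem _⟩
     mul_mem' := fun {x y} hx hy => ⟨by
        rw [S.δ_mul]
        refine mul_mem ?_ hy.1
        have := K.2.1.conj_mem _ hx.1 y⁻¹
        rwa [inv_inv] at this, fun g => by
        have e : ⁅g, x * y⁆ = ⁅g, x⁆ * (x * ⁅g, y⁆ * x⁻¹) := by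
          simp [commutatorElement_def, mul_assoc]
        rw [e]; exact mul_mem (hx.2 g) (K.2.1.conj_mem _ (hy.2 g) x)⟩
     inv_mem' := fun {x} hx => ⟨by
        rw [S.δ_inv]; exact K.2.1.conj_mem _ (inv_mem hx.1) x, fun g => by
        have e : ⁅g, x⁻¹⁆ = x⁻¹ * ⁅g, x⁆⁻¹ * x⁻¹⁻¹ := by simp [commutatorElement_def, mul_assoc]
        rw [e]; exact K.2.1.conj_mem _ (inv_mem (hx.2 g)) x⁻¹⟩ },
    ⟨fun x hx w => by
      have hc : ⁅w, x⁆ ∈ K.1 := hx.2 w
      have e : w * x * w⁻¹ = ⁅w, x⁆ * x := by rw [commutatorElement_def]; group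
      refine ⟨?_, fun g => ?_⟩
      · rw [e, S.δ_mul]
        refine mul_mem ?_ hx.1
        have := K.2.1.conj_mem _ (mul_mem (inv_mem hc) (K.2.2.1 _ hc)) x⁻¹
        rwa [inv_inv] at this
      · have e2 : ⁅g, w * x * w⁻¹⁆ = w * ⁅w⁻¹ * g * w, x⁆ * w⁻¹ := by
          simp [commutatorElement_def, mul_assoc]
        rw [e2]; exact K.2.1.conj_mem _ (hx.2 _) w⟩,
    fun x hx => ⟨by rw [S.δ_alpha]; exact K.2.2.1 _ hx.1, fun g => by
      have e : ⁅g, S.α x⁆ = S.α ⁅S.α g, x⁆ := by rw [map_commutatorElement, S.invol]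
      rw [e]; exact K.2.2.1 _ (hx.2 _)⟩,
    fun x hx => ⟨by rw [S.δ_rho]; exact K.2.2.2 _ hx.1, fun g => by
      obtain ⟨g', rfl⟩ := S.ρ.surjective g
      rw [← map_commutatorElement]; exact K.2.2.2 _ (hx.2 _)⟩⟩

/-- The chain with its invariance properties. -/
def Setup.CnAux (S : Setup Q F) : ℕ → {K : Subgroup Q // K.Normal ∧ (∀ x ∈ K, S.α x ∈ K) ∧ (∀ x ∈ K, S.ρ x ∈ K)}
  | 0 => ⟨⊥, inferInstance, fun x hx => by rw [Subgroup.mem_bot.1 hx, map_one]; exact one_mem _,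
      fun x hx => by rw [Subgroup.mem_bot.1 hx, map_one]; exact one_mem _⟩
  | j + 1 => S.next (S.CnAux j)

/-- The chain. -/
def Setup.Cn (j : ℕ) : Subgroup Q := (S.CnAux j).1

instance Setup.cn_normal (j : ℕ) : (S.Cn j).Normal := (S.CnAux j).2.1

theorem Setup.Cn_rho {j : ℕ} {x : Q} (h : x ∈ S.Cn j) : S.ρ x ∈ S.Cn j := (S.CnAux j).2.2.2 x h

theorem Setup.Cn_rho_pow {j : ℕ} (k : ℕ) {x : Q} (h : x ∈ S.Cn j) : (S.ρ ^ k) x ∈ S.Cn j := by
  induction k with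
  | zero => exact h
  | succ k ih => rw [pow_succ']; exact S.Cn_rho ih

theorem Setup.Cn_zero : S.Cn 0 = ⊥ := rfl

theorem Setup.mem_zero {x : Q} : x ∈ S.Cn 0 ↔ x = 1 := Subgroup.mem_bot

theorem Setup.mem_succ {j : ℕ} {x : Q} :
    x ∈ S.Cn (j + 1) ↔ S.δ x ∈ S.Cn j ∧ ∀ g : Q, ⁅g, x⁆ ∈ S.Cn j := Iff.rfl

theorem Setup.δ_mem {j : ℕ} {x : Q} (h : x ∈ S.Cn (j + 1)) : S.δ x ∈ S.Cn j := (S.mem_succ.1 h).1

theorem Setup.comm_mem {j : ℕ} {x : Q} (g : Q) (h : x ∈ S.Cn (j + 1)) : ⁅g, x⁆ ∈ S.Cn j :=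
  (S.mem_succ.1 h).2 g

theorem Setup.comm_mem' {j : ℕ} {x : Q} (g : Q) (h : x ∈ S.Cn (j + 1)) : ⁅x, g⁆ ∈ S.Cn j := by
  rw [← commutatorElement_inv]; exact inv_mem (S.comm_mem g h)

theorem Setup.Cn_le_succ (j : ℕ) : S.Cn j ≤ S.Cn (j + 1) := by
  induction j with
  | zero => intro x hx; rw [S.mem_zero] at hx; subst hx; exact one_mem _
  | succ j ih =>
    intro x hx
    exact S.mem_succ.2 ⟨ih (S.δ_mem hx), fun g => ih (S.comm_mem g hx)⟩

theorem Setup.Cn_mono {i j : ℕ} (h : i ≤ j) : S.Cn i ≤ S.Cn j := by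
  induction h with
  | refl => exact le_rfl
  | step _ ih => exact ih.trans (S.Cn_le_succ _)

/-- The coordinate of the `j`-th layer. -/
def Setup.La (j : ℕ) (x : Q) : F := S.L (S.δ^[j] x)

theorem Setup.La_succ (j : ℕ) (x : Q) : S.La (j + 1) x = S.La j (S.δ x) := by
  simp only [Setup.La, Function.iterate_succ_apply]

theorem Setup.La_rho_all : ∀ (j : ℕ) (x : Q), x ∈ S.Cn (j + 1) → S.La j (S.ρ x) = S.lam * S.La j x := by
  intro j
  induction j with
  | zero =>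
    intro x hx
    exact S.L_rho x (S.δ_eq_one.1 (S.mem_zero.1 (S.δ_mem hx)))
  | succ j ih =>
    intro x hx
    rw [S.La_succ, S.La_succ, S.δ_rho]
    exact ih _ (S.δ_mem hx)

/-- The facts about one layer: membership by displacement, additivity and kernel. -/
theorem Setup.layer (j : ℕ) :
    (∀ x, S.δ x ∈ S.Cn j → x ∈ S.Cn (j + 1)) ∧
    (∀ x y, x ∈ S.Cn (j + 1) → y ∈ S.Cn (j + 1) → S.La j (x * y) = S.La j x + S.La j y) ∧
    (∀ x, x ∈ S.Cn (j + 1) → (S.La j x = 0 ↔ x ∈ S.Cn j)) ∧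
    (S.Cn j ≠ ⊤ → ∀ t : F, ∃ x ∈ S.Cn (j + 1), S.La j x = t) := by
  classical
  haveI : Fact (Nat.Prime 2) := ⟨Nat.prime_two⟩
  induction j using Nat.strong_induction_on with
  | _ j ih =>
  have hfix : ∀ x, S.δ x ∈ S.Cn 0 → S.α x = x := fun x h => S.δ_eq_one.1 (S.mem_zero.1 h)
  -- additivity and kernel on the set of all `x` with `δ x ∈ Cn j`
  have hadd : ∀ x y, S.δ x ∈ S.Cn j → S.δ y ∈ S.Cn j → S.La j (x * y) = S.La j x + S.La j y := by
    intro x y hx hy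
    match j, ih, hx, hy with
    | 0, _, hx, hy => exact S.L_mul x y (hfix x hx) (hfix y hy)
    | i + 1, ih, hx, hy =>
      obtain ⟨-, hA, hK, -⟩ := ih i (Nat.lt_succ_self i)
      rw [S.La_succ, S.La_succ, S.La_succ, S.δ_mul]
      have h1 : y⁻¹ * S.δ x * y = S.δ x * ⁅(S.δ x)⁻¹, y⁻¹⁆ := by rw [commutatorElement_def]; group
      have h2 := S.comm_mem' y⁻¹ (inv_mem hx)
      have h3 := S.Cn_le_succ i h2
      rw [h1, hA _ _ (mul_mem hx h3) hy, hA _ _ hx h3, (hK _ h3).2 h2, add_zero]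
  have hker : ∀ x, S.δ x ∈ S.Cn j → (S.La j x = 0 ↔ x ∈ S.Cn j) := by
    intro x hx
    match j, ih, hx with
    | 0, _, hx =>
      constructor
      · exact fun h => S.mem_zero.2 (S.L_inj x (hfix x hx) h)
      · intro h
        rw [S.mem_zero] at h; subst h
        have := S.L_mul 1 1 (map_one _) (map_one _)
        rw [one_mul] at this
        exact left_eq_add.1 this
    | i + 1, ih, hx =>
      obtain ⟨hM, -, hK, -⟩ := ih i (Nat.lt_succ_self i)
      rw [S.La_succ, hK _ hx]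
      exact ⟨hM x, S.δ_mem⟩
  -- a point of the next term outside `Cn j`
  have hex : S.Cn j ≠ ⊤ → ∃ x ∈ S.Cn (j + 1), S.La j x ≠ 0 := by
    intro htop
    haveI : Nontrivial (Q ⧸ S.Cn j) := by
      obtain ⟨g, hg⟩ : ∃ g, g ∉ S.Cn j := by
        by_contra h; push Not at h; exact htop (eq_top_iff.2 fun g _ => h g)
      exact ⟨⟨QuotientGroup.mk g, 1, fun h => hg ((QuotientGroup.eq_one_iff g).1 h)⟩⟩
    let Z := Subgroup.center (Q ⧸ S.Cn j)
    have hP := S.hQ.to_quotient (S.Cn j)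
    haveI : Nontrivial Z := hP.center_nontrivial
    have hmap : (S.Cn j).map S.α.toMonoidHom = S.Cn j := by
      refine Subgroup.eq_of_le_of_card_ge
        (by rintro _ ⟨x, hx, rfl⟩; exact (S.CnAux j).2.2.1 x hx) ?_
      exact (Subgroup.card_map_of_injective S.α.injective).ge
    let αb : MulAut (Q ⧸ S.Cn j) := QuotientGroup.congr _ _ S.α hmap
    have hαb : ∀ v, αb (αb v) = v := fun v => QuotientGroup.induction_on v fun x => by
      show QuotientGroup.mk (S.α (S.α x)) = QuotientGroup.mk x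
      rw [S.invol]
    let e : Equiv.Perm (Q ⧸ S.Cn j) := MulAut.toPerm _ αb
    have hZe : ∀ v, v ∈ Z ↔ e v ∈ Z := by
      have h1 : ∀ v, v ∈ Z → e v ∈ Z := fun v hv => by
        rw [Subgroup.mem_center_iff] at hv ⊢
        intro g
        show g * αb v = αb v * g
        rw [← hαb g, ← map_mul, ← map_mul, hv]
      exact fun v => ⟨h1 v, fun h => by
        have := h1 _ h
        rwa [show e (e v) = v from hαb v] at this⟩
    let eZ : Equiv.Perm Z := e.subtypePerm (fun v => (hZe v).symm)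
    have he2 : eZ ^ 2 = 1 := Equiv.ext fun v => Subtype.ext (hαb v.1)
    have hm := OrderFive.perm_modEq_fixed 2 eZ he2
    have h2 : 2 ∣ Nat.card Z := by
      obtain ⟨k, hk⟩ := (hP.to_subgroup Z).exists_card_eq
      rw [hk]
      refine dvd_pow_self 2 fun h0 => ?_
      have := Finite.one_lt_card (α := Z)
      rw [hk, h0] at this
      simp at this
    have h3 : 2 ∣ Nat.card {v // eZ v = v} :=
      Nat.modEq_zero_iff_dvd.1 (hm.symm.trans (Nat.modEq_zero_iff_dvd.2 h2))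
    have h1fix : eZ (1 : Z) = 1 := Subtype.ext (map_one αb)
    have hlt : 1 < Nat.card {v // eZ v = v} := by
      haveI : Nonempty {v // eZ v = v} := ⟨⟨1, h1fix⟩⟩
      exact lt_of_lt_of_le (by norm_num) (Nat.le_of_dvd Nat.card_pos h3)
    haveI := Finite.one_lt_card_iff_nontrivial.1 hlt
    obtain ⟨⟨v, hv⟩, hne⟩ := exists_ne (⟨1, h1fix⟩ : {v // eZ v = v})
    obtain ⟨x, hx⟩ := QuotientGroup.mk_surjective (v : Q ⧸ S.Cn j)
    have hxj : x ∉ S.Cn j := fun h => hne (by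
      apply Subtype.ext; apply Subtype.ext
      rw [← hx]; exact (QuotientGroup.eq_one_iff x).2 h)
    have hxs : x ∈ S.Cn (j + 1) := by
      refine S.mem_succ.2 ⟨?_, fun g => ?_⟩
      · have := congrArg Subtype.val hv
        change αb (v : Q ⧸ S.Cn j) = v at this
        rw [← hx] at this
        exact QuotientGroup.eq.1 (Eq.symm this)
      · rw [← QuotientGroup.eq_one_iff (N := S.Cn j)]
        show QuotientGroup.mk' (S.Cn j) ⁅g, x⁆ = 1
        rw [map_commutatorElement, commutatorElement_eq_one_iff_mul_comm]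
        show QuotientGroup.mk g * QuotientGroup.mk x = QuotientGroup.mk x * QuotientGroup.mk g
        rw [hx]
        exact Subgroup.mem_center_iff.1 v.2 _
    exact ⟨x, hxs, fun h => hxj ((hker x (S.δ_mem hxs)).1 h)⟩
  have hpow : ∀ (k : ℕ) x, x ∈ S.Cn (j + 1) → S.La j ((S.ρ ^ k) x) = S.lam ^ k * S.La j x := by
    intro k
    induction k with
    | zero => intro x _; simp
    | succ k ihk =>
      intro x hx
      rw [pow_succ', pow_succ']
      show S.La j (S.ρ ((S.ρ ^ k) x)) = _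
      rw [S.La_rho_all j _ (S.Cn_rho_pow k hx), ihk x hx, mul_assoc]
  have hsurj : S.Cn j ≠ ⊤ → ∀ t : F, ∃ x ∈ S.Cn (j + 1), S.La j x = t := by
    intro htop t
    obtain ⟨x0, hx0, hne⟩ := hex htop
    by_cases ht : t = 0
    · exact ⟨1, one_mem _, by rw [ht]; exact (hker 1 (S.δ_mem (one_mem _))).2 (one_mem _)⟩
    · obtain ⟨k, hk⟩ := S.gen (t / S.La j x0) (div_ne_zero ht hne)
      exact ⟨(S.ρ ^ k) x0, S.Cn_rho_pow k hx0, by rw [hpow k _ hx0, hk, div_mul_cancel₀ t hne]⟩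
  refine ⟨?_, fun x y hx hy => hadd x y (S.δ_mem hx) (S.δ_mem hy),
    fun x hx => hker x (S.δ_mem hx), hsurj⟩
  intro x hx
  by_cases hxj : x ∈ S.Cn j
  · exact S.Cn_le_succ j hxj
  have htop : S.Cn j ≠ ⊤ := fun h => hxj (h ▸ Subgroup.mem_top x)
  obtain ⟨y, hy, hyt⟩ := hsurj htop (S.La j x)
  -- `y⁻¹ x` lies in `Cn j`
  have hyi : y⁻¹ ∈ S.Cn (j + 1) := inv_mem hy
  have h1 : S.La j (y * (y⁻¹ * x)) = S.La j y + S.La j (y⁻¹ * x) := by
    refine hadd _ _ (S.δ_mem hy) ?_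
    rw [S.δ_mul]
    refine mul_mem ?_ hx
    have := (S.cn_normal j).conj_mem _ (S.δ_mem hyi) x⁻¹
    rwa [inv_inv] at this
  rw [mul_inv_cancel_left, ← hyt] at h1
  have h2 := left_eq_add.1 h1
  have h3 : S.δ (y⁻¹ * x) ∈ S.Cn j := by
    rw [S.δ_mul]
    refine mul_mem ?_ hx
    have := (S.cn_normal j).conj_mem _ (S.δ_mem hyi) x⁻¹
    rwa [inv_inv] at this
  have h4 := S.Cn_le_succ j ((hker _ h3).1 h2)
  have := mul_mem hy h4
  rwa [mul_inv_cancel_left] at this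

theorem Setup.mem_of_δ {j : ℕ} {x : Q} (h : S.δ x ∈ S.Cn j) : x ∈ S.Cn (j + 1) := (S.layer j).1 x h

theorem Setup.La_mul {j : ℕ} {x y : Q} (hx : x ∈ S.Cn (j + 1)) (hy : y ∈ S.Cn (j + 1)) :
    S.La j (x * y) = S.La j x + S.La j y := (S.layer j).2.1 x y hx hy

theorem Setup.La_eq_zero {j : ℕ} {x : Q} (hx : x ∈ S.Cn (j + 1)) : S.La j x = 0 ↔ x ∈ S.Cn j :=
  (S.layer j).2.2.1 x hx

theorem Setup.La_surj {j : ℕ} (h : S.Cn j ≠ ⊤) (t : F) : ∃ x ∈ S.Cn (j + 1), S.La j x = t :=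
  (S.layer j).2.2.2 h t

theorem Setup.add_self (S : Setup Q F) (a : F) : a + a = 0 := by
  rw [← two_mul, S.two, zero_mul]

theorem Setup.La_inv {j : ℕ} {x : Q} (hx : x ∈ S.Cn (j + 1)) : S.La j x⁻¹ = S.La j x := by
  have h := S.La_mul (inv_mem hx) hx
  rw [inv_mul_cancel, (S.La_eq_zero (one_mem _)).2 (one_mem _)] at h
  calc S.La j x⁻¹ = S.La j x⁻¹ + (S.La j x + S.La j x) := by rw [S.add_self, add_zero]
    _ = S.La j x⁻¹ + S.La j x + S.La j x := (add_assoc _ _ _).symm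
    _ = S.La j x := by rw [← h, zero_add]

/-- The chain reaches the whole group. -/
theorem Setup.exists_top : ∃ N, S.Cn N = ⊤ := by
  by_contra hno
  push Not at hno
  have hgrow : ∀ n, n < Nat.card (S.Cn n) := by
    intro n
    induction n with
    | zero => exact Nat.card_pos
    | succ n ih =>
      obtain ⟨x, hx, hx1⟩ := S.La_surj (hno n) 1
      have hlt : S.Cn n < S.Cn (n + 1) := lt_of_le_of_ne (S.Cn_le_succ n) fun h =>
        one_ne_zero (hx1.symm.trans ((S.La_eq_zero hx).2 (h ▸ hx)))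
      have h2 : Nat.card (S.Cn n) ≤ Nat.card (S.Cn (n + 1)) := Subgroup.card_le_of_le hlt.le
      have h3 : Nat.card (S.Cn n) ≠ Nat.card (S.Cn (n + 1)) := fun h =>
        hlt.ne (Subgroup.eq_of_le_of_card_ge hlt.le h.ge)
      omega
  have := hgrow (Nat.card Q)
  have := Subgroup.card_le_card_group (S.Cn (Nat.card Q))
  omega

/-- An equivariant map between layers is multiplication by a constant. -/
theorem Setup.linear {i k : ℕ} (hi : S.Cn i ≠ ⊤) (g : Q → Q)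
    (hg : ∀ x ∈ S.Cn (i + 1), g x ∈ S.Cn (k + 1))
    (hmul : ∀ x ∈ S.Cn (i + 1), ∀ y ∈ S.Cn (i + 1), S.La k (g (x * y)) = S.La k (g x) + S.La k (g y))
    (hzero : ∀ x ∈ S.Cn i, g x ∈ S.Cn k) (hρ : ∀ x, g (S.ρ x) = S.ρ (g x)) :
    ∃ γ : F, ∀ x ∈ S.Cn (i + 1), S.La k (g x) = γ * S.La i x := by
  obtain ⟨x0, hx0, h1⟩ := S.La_surj hi 1
  refine ⟨S.La k (g x0), fun x hx => ?_⟩
  have hpow : ∀ (m : ℕ), S.La i ((S.ρ ^ m) x0) = S.lam ^ m ∧
      S.La k (g ((S.ρ ^ m) x0)) = S.lam ^ m * S.La k (g x0) := by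
    intro m
    induction m with
    | zero => simp [h1]
    | succ m ih =>
      rw [pow_succ', pow_succ']
      constructor
      · show S.La i (S.ρ ((S.ρ ^ m) x0)) = _
        rw [S.La_rho_all i _ (S.Cn_rho_pow m hx0), ih.1]
      · show S.La k (g (S.ρ ((S.ρ ^ m) x0))) = _
        rw [hρ, S.La_rho_all k _ (hg _ (S.Cn_rho_pow m hx0)), ih.2, mul_assoc]
  by_cases h0 : S.La i x = 0
  · have hxi := (S.La_eq_zero hx).1 h0
    rw [h0, mul_zero, S.La_eq_zero (hg x hx)]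
    exact hzero x hxi
  · obtain ⟨m, hm⟩ := S.gen _ h0
    set y := (S.ρ ^ m) x0 with hy
    have hyi : y ∈ S.Cn (i + 1) := S.Cn_rho_pow m hx0
    have hd : y⁻¹ * x ∈ S.Cn i := by
      rw [← S.La_eq_zero (mul_mem (inv_mem hyi) hx), S.La_mul (inv_mem hyi) hx, S.La_inv hyi,
        (hpow m).1, hm, S.add_self]
    have := hmul y hyi (y⁻¹ * x) (mul_mem (inv_mem hyi) hx)
    rw [mul_inv_cancel_left, (hpow m).2, hm,
      (S.La_eq_zero (hg _ (mul_mem (inv_mem hyi) hx))).2 (hzero _ hd), add_zero] at this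
    rw [this, mul_comm]

/-- An equivariant pairing between layers. -/
theorem Setup.pairing {i j k : ℕ} (hi : S.Cn i ≠ ⊤) (hj : S.Cn j ≠ ⊤)
    (hg : ∀ x ∈ S.Cn (i + 1), ∀ y ∈ S.Cn (j + 1), ⁅x, y⁆ ∈ S.Cn (k + 1))
    (hl : ∀ x ∈ S.Cn i, ∀ y ∈ S.Cn (j + 1), ⁅x, y⁆ ∈ S.Cn k)
    (hr : ∀ x ∈ S.Cn (i + 1), ∀ y ∈ S.Cn j, ⁅x, y⁆ ∈ S.Cn k) :
    ∃ μ : F, ∀ x ∈ S.Cn (i + 1), ∀ y ∈ S.Cn (j + 1),
      S.La k ⁅x, y⁆ ^ 2 = μ * (S.La i x * S.La j y) := by
  classical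
  -- conjugation does not move layers
  have hconj : ∀ (w : Q) {c : Q}, c ∈ S.Cn (k + 1) → S.La k (w * c * w⁻¹) = S.La k c := by
    intro w c hc
    have e : w * c * w⁻¹ = ⁅w, c⁆ * c := by rw [commutatorElement_def]; group
    have h1 := S.comm_mem w hc
    rw [e, S.La_mul (S.Cn_le_succ k h1) hc, (S.La_eq_zero (S.Cn_le_succ k h1)).2 h1, zero_add]
  have hll : ∀ x ∈ S.Cn (i + 1), ∀ x' ∈ S.Cn (i + 1), ∀ y ∈ S.Cn (j + 1),
      S.La k ⁅x * x', y⁆ = S.La k ⁅x, y⁆ + S.La k ⁅x', y⁆ := by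
    intro x hx x' hx' y hy
    have e : ⁅x * x', y⁆ = x * ⁅x', y⁆ * x⁻¹ * ⁅x, y⁆ := by simp [commutatorElement_def, mul_assoc]
    rw [e, S.La_mul ((S.cn_normal (k + 1)).conj_mem _ (hg x' hx' y hy) x) (hg x hx y hy),
      hconj x (hg x' hx' y hy), add_comm]
  have hrr : ∀ x ∈ S.Cn (i + 1), ∀ y ∈ S.Cn (j + 1), ∀ y' ∈ S.Cn (j + 1),
      S.La k ⁅x, y * y'⁆ = S.La k ⁅x, y⁆ + S.La k ⁅x, y'⁆ := by
    intro x hx y hy y' hy'
    have e : ⁅x, y * y'⁆ = ⁅x, y⁆ * (y * ⁅x, y'⁆ * y⁻¹) := by simp [commutatorElement_def, mul_assoc]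
    rw [e, S.La_mul (hg x hx y hy) ((S.cn_normal (k + 1)).conj_mem _ (hg x hx y' hy') y),
      hconj y (hg x hx y' hy')]
  choose si hsi hsi1 using S.La_surj hi
  choose sj hsj hsj1 using S.La_surj hj
  let B : F → F → F := fun a b => S.La k ⁅si a, sj b⁆
  have hB : ∀ x ∈ S.Cn (i + 1), ∀ y ∈ S.Cn (j + 1), S.La k ⁅x, y⁆ = B (S.La i x) (S.La j y) := by
    intro x hx y hy
    set a := S.La i x with ha
    set b := S.La j y with hb
    have hdx : (si a)⁻¹ * x ∈ S.Cn i := by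
      rw [← S.La_eq_zero (mul_mem (inv_mem (hsi a)) hx), S.La_mul (inv_mem (hsi a)) hx,
        S.La_inv (hsi a), hsi1, ← ha, S.add_self]
    have hdy : (sj b)⁻¹ * y ∈ S.Cn j := by
      rw [← S.La_eq_zero (mul_mem (inv_mem (hsj b)) hy), S.La_mul (inv_mem (hsj b)) hy,
        S.La_inv (hsj b), hsj1, ← hb, S.add_self]
    have h1 := hll (si a) (hsi a) ((si a)⁻¹ * x) (mul_mem (inv_mem (hsi a)) hx) y hy
    rw [mul_inv_cancel_left, (S.La_eq_zero (hg _ (mul_mem (inv_mem (hsi a)) hx) y hy)).2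
      (hl _ hdx y hy), add_zero] at h1
    have h2 := hrr (si a) (hsi a) (sj b) (hsj b) ((sj b)⁻¹ * y) (mul_mem (inv_mem (hsj b)) hy)
    rw [mul_inv_cancel_left, (S.La_eq_zero (hg _ (hsi a) _ (mul_mem (inv_mem (hsj b)) hy))).2
      (hr _ (hsi a) _ hdy), add_zero] at h2
    rw [h1, h2]
  have hBl : ∀ a a' b, B (a + a') b = B a b + B a' b := by
    intro a a' b
    rw [← hsi1 a, ← hsi1 a', ← hsj1 b, ← S.La_mul (hsi a) (hsi a'),
      ← hB _ (mul_mem (hsi a) (hsi a')) _ (hsj b), ← hB _ (hsi a) _ (hsj b),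
      ← hB _ (hsi a') _ (hsj b)]
    exact hll _ (hsi a) _ (hsi a') _ (hsj b)
  have hBr : ∀ a b b', B a (b + b') = B a b + B a b' := by
    intro a b b'
    rw [← hsi1 a, ← hsj1 b, ← hsj1 b', ← S.La_mul (hsj b) (hsj b'),
      ← hB _ (hsi a) _ (mul_mem (hsj b) (hsj b')), ← hB _ (hsi a) _ (hsj b),
      ← hB _ (hsi a) _ (hsj b')]
    exact hrr _ (hsi a) _ (hsj b) _ (hsj b')
  have hBρ : ∀ a b, B (S.lam * a) (S.lam * b) = S.lam * B a b := by
    intro a b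
    rw [← hsi1 a, ← hsj1 b, ← S.La_rho_all i _ (hsi a), ← S.La_rho_all j _ (hsj b),
      ← hB _ (S.Cn_rho (hsi a)) _ (S.Cn_rho (hsj b)), ← hB _ (hsi a) _ (hsj b),
      ← map_commutatorElement, S.La_rho_all k _ (hg _ (hsi a) _ (hsj b))]
  have hBs : ∀ t a b, B (t * a) (t * b) = t * B a b := by
    intro t a b
    by_cases ht : t = 0
    · subst ht
      rw [zero_mul, zero_mul, zero_mul]
      have := hBl 0 0 0
      rw [add_zero] at this
      exact left_eq_add.1 this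
    · obtain ⟨m, rfl⟩ := S.gen t ht
      induction m with
      | zero => simp
      | succ m ih =>
        have hne : S.lam ^ m ≠ 0 := fun h => ht (by rw [pow_succ, h, zero_mul])
        rw [pow_succ', mul_assoc, mul_assoc, hBρ, ih hne, mul_assoc]
  have hBab : ∀ a b, B a b = B (b * a) 1 := by
    intro a b
    have h1 : B ((b + 1) * a) ((b + 1) * 1) = (b + 1) * B a 1 := hBs _ _ _
    have hbb := hBs b a 1
    simp only [mul_one] at h1 hbb
    rw [add_mul, one_mul, hBl, hBr, hBr, hbb, add_mul, one_mul] at h1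
    have h2 : B a b + B (b * a) 1 = 0 := by
      have h3 : b * B a 1 + B a 1 + (B a b + B (b * a) 1) = b * B a 1 + B a 1 + 0 := by
        rw [add_zero]; linear_combination h1
      exact add_left_cancel h3
    calc B a b = B a b + (B (b * a) 1 + B (b * a) 1) := by rw [S.add_self, add_zero]
      _ = B a b + B (b * a) 1 + B (b * a) 1 := (add_assoc _ _ _).symm
      _ = B (b * a) 1 := by rw [h2, zero_add]
  haveI : CharP F 2 := CharTwo.of_one_ne_zero_of_two_eq_zero one_ne_zero S.two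
  refine ⟨B 1 1 ^ 2, fun x hx y hy => ?_⟩
  rw [hB x hx y hy, hBab]
  set z := S.La j y * S.La i x with hz
  have hz' : S.La i x * S.La j y = z := mul_comm _ _
  rw [hz']
  -- `B z 1 ^ 2 = B 1 1 ^ 2 * z`
  by_cases h0 : z = 0
  · rw [h0]
    have := hBl 0 0 1
    rw [add_zero] at this
    rw [left_eq_add.1 this]; ring
  · obtain ⟨m, hm⟩ := S.gen z h0
    have hsq : ∀ t, B (t * t) 1 = t * B 1 1 := fun t => by
      rw [← hBs t 1 1, mul_one, hBab t t]
    haveI : Fact (Nat.Prime 2) := ⟨Nat.prime_two⟩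
    haveI : Finite F := by
      haveI : Finite {x : Q // x ∈ S.Cn (i + 1)} := Subtype.finite
      exact Finite.of_surjective (fun x : {x : Q // x ∈ S.Cn (i + 1)} => S.La i x.1)
        fun t => ⟨⟨si t, hsi t⟩, hsi1 t⟩
    obtain ⟨r, hr⟩ := (Finite.injective_iff_surjective.1 (RingHom.injective (frobenius F 2))) z
    rw [frobenius_def] at hr
    rw [← hr, sq r, hsq]; ring

/-- An alternating pairing between a layer and itself vanishes. -/
theorem Setup.pairing_self {i k : ℕ} (hi : S.Cn i ≠ ⊤)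
    (hg : ∀ x ∈ S.Cn (i + 1), ∀ y ∈ S.Cn (i + 1), ⁅x, y⁆ ∈ S.Cn (k + 1))
    (hl : ∀ x ∈ S.Cn i, ∀ y ∈ S.Cn (i + 1), ⁅x, y⁆ ∈ S.Cn k) :
    ∀ x ∈ S.Cn (i + 1), ∀ y ∈ S.Cn (i + 1), ⁅x, y⁆ ∈ S.Cn k := by
  obtain ⟨μ, hμ⟩ := S.pairing hi hi hg hl (fun x hx y hy => by
    rw [← commutatorElement_inv]; exact inv_mem (hl y hy x hx))
  obtain ⟨x0, hx0, h1⟩ := S.La_surj hi 1
  have h := hμ x0 hx0 x0 hx0
  rw [commutatorElement_eq_one_iff_mul_comm.2 rfl, (S.La_eq_zero (one_mem _)).2 (one_mem _), h1] at h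
  have hμ0 : μ = 0 := by simpa using h.symm
  intro x hx y hy
  rw [← S.La_eq_zero (hg x hx y hy)]
  have := hμ x hx y hy
  rw [hμ0, zero_mul] at this
  exact pow_eq_zero_iff two_ne_zero |>.1 this

end Cfsg.Agent.TwoAut.DeltaChain
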