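import Mathlib

/-!
# Central extensions of elementary abelian 2-groups are determined by their squares
-/

set_option autoImplicit false
set_option linter.all false

namespace Cfsg.Agent.TwoAut

universe u v w

/-- A homomorphism on a subgroup of an elementary abelian 2-group extends to the whole group. -/
theorem exists_hom_extend {G : Type u} [Group G] (h2 : ∀ g : G, g * g = 1) {A : Type w} [AddCommGroup A]
    (hA : ∀ a : A, a + a = 0) (H : Subgroup G) (f : G → A)
    (hf : ∀ x ∈ H, ∀ y ∈ H, f (x * y) = f x + f y) :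
    ∃ f' : G → A, (∀ x y, f' (x * y) = f' x + f' y) ∧ ∀ x ∈ H, f' x = f x := by
  have hi : ∀ g : G, g⁻¹ = g := fun g => inv_eq_of_mul_eq_one_right (h2 g)
  letI : CommGroup G :=
    { (inferInstance : Group G) with mul_comm := fun a b => by rw [← hi (a * b), mul_inv_rev, hi, hi] }
  letI : Module (ZMod 2) (Additive G) := AddCommGroup.zmodModule (fun x => by
    rw [two_nsmul]; exact h2 x.toMul)
  letI : Module (ZMod 2) A := AddCommGroup.zmodModule (fun x => by rw [two_nsmul]; exact hA x)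
  have h1 : f 1 = 0 := by
    have := hf 1 H.one_mem 1 H.one_mem
    rw [mul_one] at this
    exact left_eq_add.1 this
  have hsmul : ∀ (c : ZMod 2) (x : Additive G), c = 0 ∧ c • x = 0 ∨ c = 1 ∧ c • x = x := by
    intro c x
    rcases (by decide +revert : c = 0 ∨ c = 1) with rfl | rfl
    · exact Or.inl ⟨rfl, zero_smul _ _⟩
    · exact Or.inr ⟨rfl, one_smul _ _⟩
  let H' : Submodule (ZMod 2) (Additive G) :=
    { carrier := {x | x.toMul ∈ H}
      add_mem' := fun ha hb => H.mul_mem ha hb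
      zero_mem' := H.one_mem
      smul_mem' := fun c x hx => by
        rcases hsmul c x with ⟨-, h⟩ | ⟨-, h⟩ <;> rw [Set.mem_setOf_eq, h]
        · exact H.one_mem
        · exact hx }
  let g : H' →ₗ[ZMod 2] A :=
    { toFun := fun x => f x.1.toMul
      map_add' := fun x y => hf _ x.2 _ y.2
      map_smul' := fun c x => by
        rcases hsmul c x.1 with ⟨rfl, -⟩ | ⟨rfl, -⟩
        · simp only [zero_smul, RingHom.id_apply]; exact h1
        · simp only [one_smul, RingHom.id_apply] }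
  obtain ⟨g', hg'⟩ := LinearMap.exists_extend g
  refine ⟨fun x => g' (Additive.ofMul x), fun x y => map_add g' _ _, fun x hx => ?_⟩
  exact LinearMap.congr_fun hg' ⟨Additive.ofMul x, hx⟩

/-- A central extension with kernel coordinatised by `Z` and quotient by `M`, all squares given
by `sq`. -/
structure QuadExt (Q : Type u) [Group Q] (Z M : Type w) [AddCommGroup Z] [AddCommGroup M]
    (sq : M → Z) where
  proj : Q → M
  emb : Z → Q
  proj_mul : ∀ x y, proj (x * y) = proj x + proj y
  proj_surj : ∀ m, ∃ x, proj x = m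
  emb_add : ∀ a b, emb (a + b) = emb a * emb b
  emb_inj : ∀ a, emb a = 1 → a = 0
  emb_central : ∀ a g, g * emb a = emb a * g
  proj_emb : ∀ a, proj (emb a) = 0
  ker_le : ∀ x, proj x = 0 → ∃ a, emb a = x
  square : ∀ x, x * x = emb (sq (proj x))

variable {Q : Type u} [Group Q] {T : Type v} [Group T] {Z M : Type w} [AddCommGroup Z]
  [AddCommGroup M] {sq : M → Z}

/-- Two such extensions are isomorphic. -/
theorem QuadExt.iso (e : QuadExt Q Z M sq) (e' : QuadExt T Z M sq) (hZ : ∀ a : Z, a + a = 0) :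
    Nonempty (Q ≃* T) := by
  classical
  have he0 : e.emb 0 = 1 := by simpa using e.emb_add 0 0
  have he0' : e'.emb 0 = 1 := by simpa using e'.emb_add 0 0
  have hp1 : e.proj 1 = 0 := by simpa using e.proj_mul 1 1
  have hp1' : e'.proj 1 = 0 := by simpa using e'.proj_mul 1 1
  -- the fibre product
  let P : Subgroup (Q × T) :=
    { carrier := {p | e.proj p.1 = e'.proj p.2}
      one_mem' := by show e.proj 1 = e'.proj 1; rw [hp1, hp1']
      mul_mem' := fun {a b} ha hb => by
        show e.proj (a.1 * b.1) = e'.proj (a.2 * b.2)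
        rw [e.proj_mul, e'.proj_mul, ha, hb]
      inv_mem' := fun {a} ha => by
        show e.proj a.1⁻¹ = e'.proj a.2⁻¹
        have h1 : e.proj a.1⁻¹ + e.proj a.1 = 0 := by rw [← e.proj_mul, inv_mul_cancel, hp1]
        have h2 : e'.proj a.2⁻¹ + e'.proj a.2 = 0 := by rw [← e'.proj_mul, inv_mul_cancel, hp1']
        rw [eq_neg_of_add_eq_zero_left h1, eq_neg_of_add_eq_zero_left h2, ha] }
  let D : Subgroup P :=
    { carrier := {p | ∃ a, (p : Q × T) = (e.emb a, e'.emb a)}
      one_mem' := ⟨0, by rw [he0, he0']; rfl⟩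
      mul_mem' := by
        rintro p q ⟨a, ha⟩ ⟨b, hb⟩
        exact ⟨a + b, by rw [Subgroup.coe_mul, ha, hb, e.emb_add, e'.emb_add]; rfl⟩
      inv_mem' := by
        rintro p ⟨a, ha⟩
        refine ⟨a, ?_⟩
        rw [Subgroup.coe_inv, ha, Prod.inv_mk, inv_eq_of_mul_eq_one_right (a := e.emb a)
          (by rw [← e.emb_add, hZ, he0]), inv_eq_of_mul_eq_one_right (a := e'.emb a)
          (by rw [← e'.emb_add, hZ, he0'])] }
  haveI : D.Normal := ⟨fun p hp g => by
    obtain ⟨a, ha⟩ := hp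
    refine ⟨a, ?_⟩
    rw [Subgroup.coe_mul, Subgroup.coe_mul, ha, Subgroup.coe_inv]
    ext
    · show (g : Q × T).1 * e.emb a * ((g : Q × T).1)⁻¹ = e.emb a
      rw [e.emb_central, mul_inv_cancel_right]
    · show (g : Q × T).2 * e'.emb a * ((g : Q × T).2)⁻¹ = e'.emb a
      rw [e'.emb_central, mul_inv_cancel_right]⟩
  have h2 : ∀ v : P ⧸ D, v * v = 1 := fun v => QuotientGroup.induction_on v fun p => by
    refine (QuotientGroup.eq_one_iff _).2 ⟨sq (e.proj (p : Q × T).1), ?_⟩
    have hp : e.proj (p : Q × T).1 = e'.proj (p : Q × T).2 := p.2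
    rw [Subgroup.coe_mul]
    ext
    · exact e.square _
    · show (p : Q × T).2 * (p : Q × T).2 = _
      rw [hp]; exact e'.square _
  let jz : Z → P := fun a => ⟨(e.emb a, 1), by show e.proj _ = e'.proj 1; rw [e.proj_emb, hp1']⟩
  let j : Z → P ⧸ D := fun a => QuotientGroup.mk (jz a)
  have hj : ∀ a b, j (a + b) = j a * j b := by
    intro a b
    show QuotientGroup.mk (jz (a + b)) = QuotientGroup.mk (jz a * jz b)
    refine congrArg _ (Subtype.ext ?_)
    show (e.emb (a + b), (1 : T)) = (e.emb a * e.emb b, 1 * 1)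
    rw [e.emb_add, mul_one]
  have hji : ∀ a, j a = 1 → a = 0 := by
    intro a h
    obtain ⟨b, hb⟩ := (QuotientGroup.eq_one_iff _).1 h
    have h1 : e.emb a = e.emb b := congrArg Prod.fst hb
    have h2 : (1 : T) = e'.emb b := congrArg Prod.snd hb
    have hb0 := e'.emb_inj b h2.symm
    rw [hb0, he0] at h1
    exact e.emb_inj a h1
  have hjinj : Function.Injective j := by
    intro a b h
    have h1 : j (a + b) = 1 := by rw [hj, h]; exact h2 _
    have h3 := hji _ h1
    calc a = a + (b + b) := by rw [hZ, add_zero]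
      _ = (a + b) + b := (add_assoc _ _ _).symm
      _ = b := by rw [h3, zero_add]
  have hj0 : j 0 = 1 := by simpa using hj 0 0
  let H : Subgroup (P ⧸ D) :=
    { carrier := Set.range j
      one_mem' := ⟨0, hj0⟩
      mul_mem' := by rintro _ _ ⟨a, rfl⟩ ⟨b, rfl⟩; exact ⟨a + b, hj a b⟩
      inv_mem' := by rintro _ ⟨a, rfl⟩; exact ⟨a, eq_inv_of_mul_eq_one_right (h2 _)⟩ }
  let jinv : P ⧸ D → Z := fun v => if h : v ∈ Set.range j then h.choose else 0
  have hjinv : ∀ a, jinv (j a) = a := fun a => by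
    have h : j a ∈ Set.range j := ⟨a, rfl⟩
    simp only [jinv, dif_pos h]
    exact hjinj h.choose_spec
  obtain ⟨r, hr, hrj⟩ := exists_hom_extend h2 hZ H jinv (by
    rintro _ ⟨a, rfl⟩ _ ⟨b, rfl⟩
    rw [← hj, hjinv, hjinv, hjinv])
  have hrz : ∀ a, r (QuotientGroup.mk (jz a)) = a := fun a => by
    rw [show (QuotientGroup.mk (jz a) : P ⧸ D) = j a from rfl, hrj _ ⟨a, rfl⟩, hjinv]
  -- for each `x` a preimage in `T`
  choose s hs using fun x : Q => e'.proj_surj (e.proj x)
  let φ : Q → T := fun x => s x * e'.emb (r (QuotientGroup.mk (⟨(x, s x), (hs x).symm⟩ : P)))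
  have hφ : ∀ (x : Q) (t : T) (ht : e.proj x = e'.proj t),
      φ x = t * e'.emb (r (QuotientGroup.mk (⟨(x, t), ht⟩ : P))) := by
    intro x t ht
    have h0 : e'.proj ((s x)⁻¹ * t) = 0 := by
      have h1 : e'.proj (s x) + e'.proj ((s x)⁻¹ * t) = e'.proj (s x) := by
        rw [← e'.proj_mul, mul_inv_cancel_left, hs, ht]
      exact add_eq_left.1 h1
    obtain ⟨a, ha⟩ := e'.ker_le _ h0
    have e1 : (QuotientGroup.mk (⟨(x, t), ht⟩ : P) : P ⧸ D) =
        QuotientGroup.mk ((⟨(x, s x), (hs x).symm⟩ : P) * jz a) := by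
      refine QuotientGroup.eq.2 ⟨a, ?_⟩
      ext
      · show x⁻¹ * (x * e.emb a) = e.emb a
        rw [inv_mul_cancel_left]
      · show t⁻¹ * (s x * 1) = e'.emb a
        rw [mul_one, ← inv_inv (e'.emb a), inv_eq_of_mul_eq_one_right (a := e'.emb a)
          (by rw [← e'.emb_add, hZ, he0']), ha, mul_inv_rev, inv_inv]
    rw [e1, QuotientGroup.mk_mul, hr, hrz, e'.emb_add]
    show s x * e'.emb _ = _
    have ht' : t = s x * e'.emb a := by rw [ha, mul_inv_cancel_left]
    rw [ht', mul_assoc, ← mul_assoc (e'.emb a), ← e'.emb_add, ← e'.emb_add]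
    congr 2
    rw [add_comm a, add_assoc, hZ, add_zero]
  have hmul : ∀ x y, φ (x * y) = φ x * φ y := by
    intro x y
    have ht : e.proj (x * y) = e'.proj (s x * s y) := by rw [e.proj_mul, e'.proj_mul, hs, hs]
    rw [hφ (x * y) (s x * s y) ht]
    show s x * s y * _ = s x * e'.emb _ * (s y * e'.emb _)
    rw [show (⟨(x * y, s x * s y), ht⟩ : P) = ⟨(x, s x), (hs x).symm⟩ * ⟨(y, s y), (hs y).symm⟩ from rfl,
      QuotientGroup.mk_mul, hr, e'.emb_add]
    have hc := e'.emb_central (r (QuotientGroup.mk (⟨(x, s x), (hs x).symm⟩ : P))) (s y)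
    rw [mul_assoc, ← mul_assoc (s y), hc, mul_assoc, ← mul_assoc (s x)]
  refine ⟨MulEquiv.ofBijective (MonoidHom.mk' φ hmul) ⟨?_, ?_⟩⟩
  · rw [injective_iff_map_eq_one]
    intro x hx
    change φ x = 1 at hx
    have h0 : e.proj x = 0 := by
      have h := congrArg e'.proj hx
      simp only [φ, e'.proj_mul, e'.proj_emb, add_zero, hp1', hs] at h
      exact h
    obtain ⟨a, rfl⟩ := e.ker_le x h0
    rw [hφ (e.emb a) 1 (by rw [e.proj_emb, hp1']), one_mul,
      show (⟨(e.emb a, 1), _⟩ : P) = jz a from rfl, hrz] at hx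
    rw [e'.emb_inj a hx, he0]
  · intro t
    obtain ⟨x, hx⟩ := e.proj_surj (e'.proj t)
    refine ⟨x * e.emb (r (QuotientGroup.mk (⟨(x, t), hx⟩ : P))), ?_⟩
    show φ _ = t
    set a := r (QuotientGroup.mk (⟨(x, t), hx⟩ : P)) with ha
    have hφa : φ (e.emb a) = e'.emb a := by
      rw [hφ (e.emb a) 1 (by rw [e.proj_emb, hp1']), one_mul,
        show (⟨(e.emb a, 1), _⟩ : P) = jz a from rfl, hrz]
    rw [hmul, hφ x t hx, ← ha, hφa, mul_assoc, ← e'.emb_add, hZ, he0', mul_one]

end Cfsg.Agent.TwoAut
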