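import Cfsg.Agent.TwoAut.DeltaShape
import Cfsg.Agent.TwoAut.QuadExt

/-!
# Quadratic coordinates
-/

set_option autoImplicit false
set_option linter.all false

namespace Cfsg.Agent.TwoAut.DeltaChain

open scoped commutatorElement

universe u

variable {Q : Type u} [Group Q] [Finite Q] {F : Type} [Field F]

/-- The binary quadratic form `b² + ab + k a²`. -/
def qform (k : F) (p : F × F) : F := p.2 * p.2 + p.1 * p.2 + k * (p.1 * p.1)

theorem Setup.coords (S : Setup Q F) (hna : ∃ a b : Q, a * b ≠ b * a) (N : ℕ) (hN : Odd N)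
    (hρ : S.ρ ^ N = 1) (hlam : S.lam ^ N = 1) :
    ∃ k : F, Nonempty (QuadExt Q F (F × F) (qform k)) := by
  classical
  obtain ⟨t3, t2, hsq, hC1, hL1, hcomm⟩ := S.shape hna
  have h3 : ∀ x, x ∈ S.Cn 3 := fun x => t3 ▸ Subgroup.mem_top x
  have t1 : S.Cn 1 ≠ ⊤ := S.Cn_top (by norm_num) t2
  have t0 : S.Cn 0 ≠ ⊤ := S.Cn_top (by norm_num) t2
  haveI : Fact (Nat.Prime 2) := ⟨Nat.prime_two⟩
  haveI : CharP F 2 := CharTwo.of_one_ne_zero_of_two_eq_zero one_ne_zero S.two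
  have hfin : Finite F := Finite.of_surjective (fun x : S.Cn 1 => S.La 0 x.1)
    fun t => by obtain ⟨x, hx, hxt⟩ := S.La_surj t0 t; exact ⟨⟨x, hx⟩, hxt⟩
  -- extend the second coordinate
  let π1 : Q →* Q ⧸ S.Cn 1 := QuotientGroup.mk' (S.Cn 1)
  have h2q : ∀ v : Q ⧸ S.Cn 1, v * v = 1 := fun v => QuotientGroup.induction_on v fun x =>
    (QuotientGroup.eq_one_iff _).2 (hsq x)
  let f : Q ⧸ S.Cn 1 → F := fun v =>
    if h : ∃ x ∈ S.Cn 2, π1 x = v then S.La 1 h.choose else 0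
  have hf : ∀ x ∈ S.Cn 2, f (π1 x) = S.La 1 x := by
    intro x hx
    have h : ∃ y ∈ S.Cn 2, π1 y = π1 x := ⟨x, hx, rfl⟩
    simp only [f, dif_pos h]
    obtain ⟨hy, hyx⟩ := h.choose_spec
    have hd : h.choose⁻¹ * x ∈ S.Cn 1 := QuotientGroup.eq.1 hyx
    have := S.La_mul hy (S.Cn_le_succ 1 hd)
    rw [mul_inv_cancel_left, (S.La_eq_zero (S.Cn_le_succ 1 hd)).2 hd, add_zero] at this
    exact this.symm
  obtain ⟨f', hf'a, hf'e⟩ := exists_hom_extend h2q S.add_self ((S.Cn 2).map π1) f (by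
    rintro _ ⟨x, hx, rfl⟩ _ ⟨y, hy, rfl⟩
    rw [← map_mul, hf _ (mul_mem hx hy), hf x hx, hf y hy, S.La_mul hx hy])
  let r : Q → F := fun x => f' (π1 x)
  have hr : ∀ x y, r (x * y) = r x + r y := fun x y => by simp only [r, map_mul, hf'a]
  have hrL : ∀ x ∈ S.Cn 2, r x = S.La 1 x := fun x hx => by
    simp only [r]; rw [hf'e _ ⟨x, hx, rfl⟩, hf x hx]
  -- average
  have hlam0 : S.lam ≠ 0 := fun h => by rw [h, zero_pow hN.pos.ne'] at hlam; exact zero_ne_one hlam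
  let b : Q → F := fun x => ∑ i ∈ Finset.range N, (S.lam ^ i)⁻¹ * r ((S.ρ ^ i) x)
  have hb : ∀ x y, b (x * y) = b x + b y := fun x y => by
    simp only [b, map_mul, hr, mul_add, Finset.sum_add_distrib]
  have hLpow : ∀ (i : ℕ) x, x ∈ S.Cn 2 → S.La 1 ((S.ρ ^ i) x) = S.lam ^ i * S.La 1 x := by
    intro i
    induction i with
    | zero => intro x _; simp
    | succ i ih =>
      intro x hx
      rw [pow_succ', pow_succ']
      show S.La 1 (S.ρ ((S.ρ ^ i) x)) = _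
      rw [S.La_rho_all 1 _ (S.Cn_rho_pow i hx), ih x hx, mul_assoc]
  have hbL : ∀ x ∈ S.Cn 2, b x = S.La 1 x := by
    intro x hx
    simp only [b]
    rw [Finset.sum_congr rfl (g := fun _ => S.La 1 x) (fun i _ => by
      rw [hrL _ (S.Cn_rho_pow i hx), hLpow i x hx, inv_mul_cancel_left₀ (pow_ne_zero i hlam0)]),
      Finset.sum_const, Finset.card_range]
    obtain ⟨j, rfl⟩ := hN
    rw [succ_nsmul, mul_comm, mul_nsmul, two_nsmul, S.add_self, zero_add]
  have hbρ : ∀ x, b (S.ρ x) = S.lam * b x := by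
    intro x
    simp only [b]
    let g : ℕ → F := fun i => (S.lam ^ i)⁻¹ * r ((S.ρ ^ i) x)
    have hg : g N = g 0 := by simp [g, hρ, hlam]
    have hshift : ∑ i ∈ Finset.range N, g (i + 1) = ∑ i ∈ Finset.range N, g i := by
      have h1 := Finset.sum_range_succ g N
      rw [Finset.sum_range_succ' g N, hg] at h1
      exact add_right_cancel h1
    rw [Finset.mul_sum, ← Finset.sum_congr rfl (fun i _ => show S.lam * g (i + 1) =
      (S.lam ^ i)⁻¹ * r ((S.ρ ^ i) (S.ρ x)) by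
        simp only [g]
        rw [pow_succ, pow_succ, mul_inv_rev, ← mul_assoc, ← mul_assoc, mul_inv_cancel₀ hlam0, one_mul]
        rfl), ← Finset.mul_sum, hshift, Finset.mul_sum]
  have hb1 : b 1 = 0 := by simpa using hb 1 1
  have ha : ∀ x y, S.La 2 (x * y) = S.La 2 x + S.La 2 y := fun x y => S.La_mul (h3 x) (h3 y)
  -- the canonical lift of `(1, 0)`
  obtain ⟨x0, -, hx0⟩ := S.La_surj t2 1
  obtain ⟨u0, hu0, hu01⟩ := S.La_surj t1 (b x0)
  have hw : b (x0 * u0⁻¹) = 0 ∧ S.La 2 (x0 * u0⁻¹) = 1 := by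
    have hu' : S.La 1 u0⁻¹ = b x0 := by rw [S.La_inv hu0, hu01]
    constructor
    · rw [hb, hbL _ (inv_mem hu0), hu', S.add_self]
    · rw [ha, (S.La_eq_zero (h3 _)).2 (inv_mem hu0), add_zero, hx0]
  generalize x0 * u0⁻¹ = w0 at hw
  obtain ⟨hw0, hw1⟩ := hw
  set κ : F := S.L (w0 * w0) with hκ
  have hCker : ∀ x, S.La 2 x = 0 → b x = 0 → x ∈ S.Cn 1 := by
    intro x h2 hb0
    have hx2 := (S.La_eq_zero (h3 x)).1 h2
    rw [hbL x hx2] at hb0
    exact (S.La_eq_zero hx2).1 hb0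
  have hCinv : ∀ c ∈ S.Cn 1, S.La 2 c = 0 ∧ b c = 0 := fun c hc =>
    ⟨(S.La_eq_zero (h3 c)).2 (S.Cn_le_succ 1 hc),
      by rw [hbL c (S.Cn_le_succ 1 hc), (S.La_eq_zero (S.Cn_le_succ 1 hc)).2 hc]⟩
  have hc1 : ∀ x y : Q, ⁅x, y⁆ ∈ S.Cn 1 := by
    intro x y
    rw [← QuotientGroup.eq_one_iff (N := S.Cn 1)]
    show π1 ⁅x, y⁆ = 1
    rw [map_commutatorElement, commutatorElement_eq_one_iff_mul_comm]
    have hi : ∀ v : Q ⧸ S.Cn 1, v⁻¹ = v := fun v => inv_eq_of_mul_eq_one_right (h2q v)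
    rw [← hi (π1 x * π1 y), mul_inv_rev, hi, hi]
  have hLadd : ∀ x y, x ∈ S.Cn 1 → y ∈ S.Cn 1 → S.L (x * y) = S.L x + S.L y := fun x y hx hy =>
    S.L_mul x y (S.mem_one hx) (S.mem_one hy)
  have hsq2 : ∀ x y : Q, S.L ((x * y) * (x * y)) = S.L (x * x) + S.L (y * y) + S.L ⁅y, x⁆ := by
    intro x y
    have h := hC1 _ (hc1 y x) x
    have hyx : y * x = ⁅y, x⁆ * (x * y) := by rw [commutatorElement_def]; group
    have e : (x * y) * (x * y) = ⁅y, x⁆ * ((x * x) * (y * y)) := by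
      calc (x * y) * (x * y) = x * (y * x) * y := by group
        _ = x * ⁅y, x⁆ * (x * y) * y := by rw [hyx]; group
        _ = ⁅y, x⁆ * x * (x * y) * y := by rw [h]
        _ = _ := by group
    rw [e, hLadd _ _ (hc1 y x) (mul_mem (hsq x) (hsq y)), hLadd _ _ (hsq x) (hsq y)]
    ring
  -- squares on the kernel of `b`
  have hW : ∀ w, b w = 0 → S.L (w * w) = κ * S.La 2 w := by
    intro w hw
    by_cases h0 : S.La 2 w = 0
    · have hwC := hCker w h0 hw
      rw [h0, mul_zero, hLadd w w hwC hwC, S.add_self]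
    · obtain ⟨m, hm⟩ := S.gen _ h0
      have hpow : ∀ m, b ((S.ρ ^ m) w0) = 0 ∧ S.La 2 ((S.ρ ^ m) w0) = S.lam ^ m ∧
          S.L ((S.ρ ^ m) w0 * (S.ρ ^ m) w0) = S.lam ^ m * κ := by
        intro m
        induction m with
        | zero => exact ⟨hw0, by simp [hw1], by simp [hκ]⟩
        | succ m ih =>
          rw [pow_succ', pow_succ']
          refine ⟨?_, ?_, ?_⟩
          · show b (S.ρ ((S.ρ ^ m) w0)) = 0
            rw [hbρ, ih.1, mul_zero]
          · show S.La 2 (S.ρ ((S.ρ ^ m) w0)) = _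
            rw [S.La_rho_all 2 _ (h3 _), ih.2.1]
          · show S.L (S.ρ ((S.ρ ^ m) w0) * S.ρ ((S.ρ ^ m) w0)) = _
            rw [← map_mul, S.L_rho _ (S.mem_one (hsq _)), ih.2.2, mul_assoc]
      obtain ⟨h1, h2, h4⟩ := hpow m
      generalize (S.ρ ^ m) w0 = v at h1 h2 h4
      have hvi : b v⁻¹ = 0 := by
        have := hb v⁻¹ v
        rw [inv_mul_cancel, hb1, h1, add_zero] at this
        exact this.symm
      have hd : v⁻¹ * w ∈ S.Cn 1 := by
        refine hCker _ ?_ ?_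
        · rw [ha, S.La_inv (h3 v), h2, hm, S.add_self]
        · rw [hb, hvi, hw, add_zero]
      have h5 := hsq2 v (v⁻¹ * w)
      rw [mul_inv_cancel_left, h4, hm, hLadd _ _ hd hd, S.add_self, add_zero,
        commutatorElement_eq_one_iff_mul_comm.2 (hC1 _ hd v).symm] at h5
      have hL1' : S.L (1 : Q) = 0 := by
        have := hLadd 1 1 (one_mem _) (one_mem _)
        rw [one_mul] at this; exact left_eq_add.1 this
      rw [h5, hL1', add_zero, mul_comm]
  have hmain : ∀ x, S.L (x * x) * S.L (x * x) = qform (κ * κ) (S.La 2 x, b x) := by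
    intro x
    obtain ⟨u, hu, hub⟩ := S.La_surj t1 (b x)
    have hui : u⁻¹ ∈ S.Cn 2 := inv_mem hu
    have h1 : b (x * u⁻¹) = 0 := by rw [hb, hbL _ hui, S.La_inv hu, hub, S.add_self]
    have h2 : S.La 2 (x * u⁻¹) = S.La 2 x := by rw [ha, (S.La_eq_zero (h3 _)).2 hui, add_zero]
    have h4 := hsq2 (x * u⁻¹) u
    rw [inv_mul_cancel_right, hW _ h1, h2, hL1 u hu, hub, ← commutatorElement_inv] at h4
    have hLi : S.L ⁅x * u⁻¹, u⁆⁻¹ = S.L ⁅x * u⁻¹, u⁆ := S.La_inv (j := 0) (hc1 _ _)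
    rw [hLi] at h4
    have h5 := hcomm (x * u⁻¹) u hu
    rw [h2, hub] at h5
    rw [h4]
    simp only [qform]
    linear_combination (norm := (ring_nf; simp [CharTwo.two_eq_zero])) h5
  -- the square root coordinate
  have hinjsq : ∀ x, x ∈ S.Cn 1 → S.L x * S.L x = 0 → x = 1 := fun x hx h =>
    S.L_inj x (S.mem_one hx) (mul_self_eq_zero.1 h)
  have hsurj : ∀ t : F, ∃ c ∈ S.Cn 1, S.L c * S.L c = t := by
    intro t
    obtain ⟨s, hs⟩ := (Finite.injective_iff_surjective.1 (RingHom.injective (frobenius F 2))) t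
    rw [frobenius_def, sq] at hs
    obtain ⟨c, hc, hcs⟩ := S.La_surj t0 s
    rw [S.La_zero] at hcs
    exact ⟨c, hc, by rw [hcs, hs]⟩
  choose emb hemb hembL using hsurj
  have huniq : ∀ x ∈ S.Cn 1, x = emb (S.L x * S.L x) := by
    intro x hx
    have h := hembL (S.L x * S.L x)
    set c := emb (S.L x * S.L x) with hc
    have hcC : c ∈ S.Cn 1 := hemb _
    have hLi : S.L c⁻¹ = S.L c := S.La_inv (j := 0) hcC
    have h1 : x * c⁻¹ = 1 := hinjsq _ (mul_mem hx (inv_mem hcC)) (by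
      rw [hLadd _ _ hx (inv_mem hcC), hLi]
      linear_combination (norm := (ring_nf; simp [CharTwo.two_eq_zero])) h)
    exact mul_inv_eq_one.1 h1
  refine ⟨κ * κ, ⟨{
    proj := fun x => (S.La 2 x, b x)
    emb := emb
    proj_mul := fun x y => by simp only [ha, hb, Prod.mk_add_mk]
    proj_surj := ?_
    emb_add := ?_
    emb_inj := ?_
    emb_central := fun a g => hC1 _ (hemb a) g
    proj_emb := fun a => by
      obtain ⟨h1, h2⟩ := hCinv _ (hemb a)
      simp [h1, h2]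
    ker_le := fun x hx => by
      rw [Prod.mk_eq_zero] at hx
      exact ⟨_, (huniq x (hCker x hx.1 hx.2)).symm⟩
    square := fun x => by rw [← hmain]; exact huniq _ (hsq x) }⟩⟩
  · rintro ⟨s, t⟩
    obtain ⟨x, -, hx⟩ := S.La_surj t2 s
    obtain ⟨u, hu, hut⟩ := S.La_surj t1 (b x + t)
    refine ⟨x * u, ?_⟩
    simp only [Prod.mk.injEq]
    constructor
    · rw [ha, hx, (S.La_eq_zero (h3 u)).2 hu, add_zero]
    · rw [hb, hbL u hu, hut, ← add_assoc, S.add_self, zero_add]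
  · intro s t
    refine Eq.trans ?_ (huniq _ (mul_mem (hemb s) (hemb t))).symm
    congr 1
    rw [hLadd _ _ (hemb s) (hemb t)]
    linear_combination (norm := (ring_nf; simp [CharTwo.two_eq_zero])) (-1 : F) * hembL s + (-1 : F) * hembL t
  · intro s h
    have := hembL s
    rw [h] at this
    have h1 := hLadd 1 1 (one_mem _) (one_mem _)
    rw [one_mul] at h1
    rw [← this, left_eq_add.1 h1, mul_zero]

end Cfsg.Agent.TwoAut.DeltaChain
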