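import Cfsg.Agent.TwoAut.DeltaChain

/-!
# The shape of a non-abelian group with such automorphisms
-/

set_option autoImplicit false
set_option linter.all false

namespace Cfsg.Agent.TwoAut.DeltaChain

open scoped commutatorElement

universe u

variable {Q : Type u} [Group Q] [Finite Q] {F : Type} [Field F] (S : Setup Q F)

theorem Setup.Cn_top {i j : ℕ} (hij : i ≤ j) (h : S.Cn j ≠ ⊤) : S.Cn i ≠ ⊤ := fun e =>
  h (eq_top_iff.2 (e ▸ S.Cn_mono hij))

theorem Setup.mem_one {x : Q} (h : x ∈ S.Cn 1) : S.α x = x :=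
  S.δ_eq_one.1 (S.mem_zero.1 (S.δ_mem h))

theorem Setup.La_zero (x : Q) : S.La 0 x = S.L x := rfl

/-- Squares drop by one layer. -/
theorem Setup.sq_mem : ∀ (m : ℕ) {x : Q}, x ∈ S.Cn (m + 1) → x * x ∈ S.Cn m := by
  intro m
  induction m with
  | zero =>
    intro x hx
    refine (S.La_eq_zero (mul_mem hx hx)).1 ?_
    rw [S.La_mul hx hx, S.add_self]
  | succ m ih =>
    intro x hx
    have hy := S.δ_mem hx
    refine S.mem_of_δ ?_
    rw [S.δ_mul, show x⁻¹ * S.δ x * x * S.δ x = ⁅x⁻¹, S.δ x⁆ * (S.δ x * S.δ x) by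
      rw [commutatorElement_def]; group]
    exact mul_mem (S.comm_mem _ hy) (ih hy)

/-- The hypothesis that a term is abelian and inverted by `α`. -/
structure Setup.Inv (S : Setup Q F) (m : ℕ) : Prop where
  comm : ∀ x ∈ S.Cn m, ∀ y ∈ S.Cn m, x * y = y * x
  inv : ∀ x ∈ S.Cn m, S.δ x * (x * x) = 1

theorem Setup.inv_zero : S.Inv 0 where
  comm x hx y hy := by rw [S.mem_zero.1 hx, S.mem_zero.1 hy]
  inv x hx := by rw [S.mem_zero.1 hx, S.δ_one, mul_one, mul_one]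

/-- An abelian term that is not the last one is inverted. -/
theorem Setup.inv_step {m : ℕ} (hI : S.Inv m) (hc : ∀ x ∈ S.Cn (m + 1), ∀ y ∈ S.Cn (m + 1), x * y = y * x)
    (htop : S.Cn (m + 1) ≠ ⊤) : S.Inv (m + 1) := by
  refine ⟨hc, ?_⟩
  have hδ : ∀ z ∈ S.Cn (m + 1), ∀ w ∈ S.Cn (m + 1), S.δ z * w = w * S.δ z :=
    fun z hz w hw => hc _ (S.Cn_le_succ m (S.δ_mem hz)) w hw
  -- `z ↦ δ z * z²` is an equivariant map into the fixed points
  have hfix : ∀ z ∈ S.Cn (m + 1), S.δ z * (z * z) ∈ S.Cn 1 := by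
    intro z hz
    refine S.mem_of_δ (S.mem_zero.2 (S.δ_eq_one.2 ?_))
    have e : S.α z = z * S.δ z := by simp [Setup.δ]
    rw [map_mul, map_mul, S.α_δ, e]
    calc (S.δ z)⁻¹ * (z * S.δ z * (z * S.δ z)) = (S.δ z)⁻¹ * ((z * S.δ z) * (z * S.δ z)) := rfl
      _ = (S.δ z)⁻¹ * ((S.δ z * z) * (z * S.δ z)) := by rw [hδ z hz z hz]
      _ = z * z * S.δ z := by group
      _ = S.δ z * (z * z) := (hδ z hz _ (mul_mem hz hz)).symm
  obtain ⟨γ, hγ⟩ := S.linear (i := m) (k := 0) (S.Cn_top (Nat.le_succ m) htop)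
    (fun z => S.δ z * (z * z)) hfix
    (fun x hx y hy => by
      rw [← S.La_mul (hfix x hx) (hfix y hy)]
      congr 1
      have hy' : y⁻¹ * S.δ x * y = S.δ x := by
        rw [mul_assoc, hδ x hx y hy, inv_mul_cancel_left]
      rw [S.δ_mul, hy']
      have e1 := hδ y hy x hx
      have e2 := hc y hy x hx
      have e3 := hδ y hy (x * x) (mul_mem hx hx)
      calc S.δ x * S.δ y * (x * y * (x * y)) = S.δ x * S.δ y * (x * (y * x) * y) := by group
        _ = S.δ x * S.δ y * (x * (x * y) * y) := by rw [e2]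
        _ = S.δ x * (S.δ y * (x * x)) * (y * y) := by group
        _ = S.δ x * ((x * x) * S.δ y) * (y * y) := by rw [e3]
        _ = _ := by group)
    (fun x hx => by rw [S.mem_zero]; exact hI.inv x hx)
    (fun x => by rw [S.δ_rho, map_mul, map_mul])
  obtain ⟨x, hx, hx1⟩ := S.La_surj htop 1
  have hy := S.δ_mem hx
  have h1 : S.δ (S.δ x) * (S.δ x * S.δ x) = 1 := by
    conv_lhs => arg 1; rw [Setup.δ, S.α_δ]
    group
  have h2 := hγ _ hy
  rw [h1, (S.La_eq_zero (one_mem _)).2 (one_mem _), ← S.La_succ, hx1, mul_one] at h2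
  intro z hz
  have h3 := hγ z hz
  rw [← h2, zero_mul] at h3
  exact S.mem_zero.1 ((S.La_eq_zero (hfix z hz)).1 h3)

/-- Squaring shifts the coordinates of an inverted term. -/
theorem Setup.La_sq {m : ℕ} (hI : S.Inv m) {j : ℕ} {z : Q} (hz : z ∈ S.Cn (j + 2)) (hm : j + 2 ≤ m) :
    S.La j (z * z) = S.La (j + 1) z := by
  have h := hI.inv z (S.Cn_mono hm hz)
  rw [S.La_succ, show z * z = (S.δ z)⁻¹ from eq_inv_of_mul_eq_one_right h]
  exact S.La_inv (S.δ_mem hz)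

/-- Iterated squaring in an inverted term. -/
theorem Setup.La_pow {m : ℕ} (hI : S.Inv m) : ∀ (d k : ℕ), k + d + 1 ≤ m → ∀ z ∈ S.Cn (k + d + 1),
    z ^ 2 ^ d ∈ S.Cn (k + 1) ∧ S.La k (z ^ 2 ^ d) = S.La (k + d) z := by
  intro d
  induction d with
  | zero => intro k _ z hz; simpa using hz
  | succ d ih =>
    intro k hm z hz
    have hz' : z * z ∈ S.Cn (k + d + 1) := S.sq_mem _ (by rwa [show k + (d + 1) + 1 = k + d + 1 + 1 by omega] at hz)
    obtain ⟨h1, h2⟩ := ih k (by omega) _ hz'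
    have e : z ^ 2 ^ (d + 1) = (z * z) ^ 2 ^ d := by rw [pow_succ', pow_mul, sq]
    rw [e]
    refine ⟨h1, h2.trans ?_⟩
    rw [S.La_sq hI (j := k + d) (by rwa [show k + d + 2 = k + (d + 1) + 1 by omega]) (by omega),
      show k + d + 1 = k + (d + 1) by omega]

/-- For `m ≥ 3` the next term of an inverted term is abelian. -/
theorem Setup.big_step {m : ℕ} (h3 : 3 ≤ m) (hI : S.Inv m) (htop : S.Cn m ≠ ⊤) :
    ∀ x ∈ S.Cn (m + 1), ∀ y ∈ S.Cn (m + 1), x * y = y * x := by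
  obtain ⟨n, rfl⟩ : ∃ n, m = n + 3 := ⟨m - 3, by omega⟩
  have hA : ∀ {j : ℕ}, j ≤ n + 3 → ∀ {z : Q}, z ∈ S.Cn j → z ∈ S.Cn (n + 3) :=
    fun {j} hj {z} hz => S.Cn_mono hj hz
  have hcomm1 : ∀ {a b : Q}, a ∈ S.Cn (n + 3) → b ∈ S.Cn (n + 3) → ⁅a, b⁆ = 1 := fun ha hb =>
    commutatorElement_eq_one_iff_mul_comm.2 (hI.comm _ ha _ hb)
  obtain ⟨x1, hx1, hx11⟩ := S.La_surj htop 1
  -- first two layers
  obtain ⟨μ, hμ⟩ := S.pairing (i := n + 3) (j := 2) (k := 1) htop (S.Cn_top (by omega) htop)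
    (fun x _ z hz => S.comm_mem x hz)
    (fun x hx z hz => by rw [hcomm1 hx (hA (by omega) hz)]; exact one_mem _)
    (fun x _ z hz => S.comm_mem x hz)
  obtain ⟨μ', hμ'⟩ := S.pairing (i := n + 3) (j := 1) (k := 0) htop (S.Cn_top (by omega) htop)
    (fun x _ z hz => S.comm_mem x hz)
    (fun x hx z hz => by rw [hcomm1 hx (hA (by omega) hz)]; exact one_mem _)
    (fun x _ z hz => S.comm_mem x hz)
  have hsq : ∀ x : Q, ∀ z ∈ S.Cn 3, ⁅x, z * z⁆ = ⁅x, z⁆ * ⁅x, z⁆ := by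
    intro x z hz
    have e : ⁅x, z * z⁆ = ⁅x, z⁆ * (z * ⁅x, z⁆ * z⁻¹) := by simp [commutatorElement_def, mul_assoc]
    rw [e, hI.comm z (hA (by omega) hz) _ (hA (by omega) (S.comm_mem x hz)), mul_inv_cancel_right]
  obtain ⟨z1, hz1, hz11⟩ := S.La_surj (j := 2) (S.Cn_top (by omega) htop) 1
  have hμeq : μ' = μ := by
    have h1 := hμ' x1 hx1 (z1 * z1) (S.sq_mem 2 hz1)
    rw [hsq x1 z1 hz1, S.La_sq hI (j := 0) (S.comm_mem x1 hz1) (by omega),
      S.La_sq hI (j := 1) hz1 (by omega), hμ x1 hx1 z1 hz1, hx11, hz11] at h1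
    simpa using h1.symm
  have hμ0 : μ = 0 := by
    by_contra hne
    obtain ⟨t, ht0, ht1⟩ := S.big
    have key : ∀ b : F, b ≠ 0 → b = μ := by
      intro b hb
      obtain ⟨z, hz, hzb⟩ := S.La_surj (j := 2) (S.Cn_top (by omega) htop) b
      have hw := S.comm_mem x1 hz
      have h1 : ⁅x1 * x1, z⁆ = 1 := hcomm1 (S.sq_mem _ hx1) (hA (by omega) hz)
      have e : ⁅x1 * x1, z⁆ = ⁅x1, ⁅x1, z⁆⁆ * (⁅x1, z⁆ * ⁅x1, z⁆) := by
        simp [commutatorElement_def, mul_assoc]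
      rw [e] at h1
      have h2 : S.La 0 ⁅x1, ⁅x1, z⁆⁆ = S.La 1 ⁅x1, z⁆ := by
        rw [eq_inv_of_mul_eq_one_left h1, S.La_inv (S.sq_mem 1 hw),
          S.La_sq hI (j := 0) hw (by omega)]
      have h3 := hμ' x1 hx1 _ hw
      rw [h2, hμ x1 hx1 z hz, hμeq, hx11, hzb, one_mul, one_mul] at h3
      have h4 : b = S.La 1 ⁅x1, z⁆ := mul_left_cancel₀ hne h3
      have h5 := hμ x1 hx1 z hz
      rw [← h4, hx11, hzb, one_mul, sq] at h5
      exact mul_right_cancel₀ hb h5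
    exact ht1 ((key t ht0).trans (key 1 one_ne_zero).symm)
  subst hμeq
  subst hμ0
  have h2c : ∀ x ∈ S.Cn (n + 3 + 1), ∀ z ∈ S.Cn 2, ⁅x, z⁆ = 1 := by
    intro x hx z hz
    have h := hμ' x hx z hz
    rw [zero_mul] at h
    exact S.mem_zero.1 ((S.La_eq_zero (S.comm_mem x hz)).1 (pow_eq_zero_iff two_ne_zero |>.1 h))
  have h3c : ∀ x ∈ S.Cn (n + 3 + 1), ∀ z ∈ S.Cn 3, ⁅x, z⁆ ∈ S.Cn 1 := by
    intro x hx z hz
    have h := hμ x hx z hz
    rw [zero_mul] at h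
    exact (S.La_eq_zero (S.comm_mem x hz)).1 (pow_eq_zero_iff two_ne_zero |>.1 h)
  -- commutators drop by two layers
  have hdrop : ∀ j, j ≤ n → ∀ x ∈ S.Cn (n + 3 + 1), ∀ z ∈ S.Cn (j + 3), ⁅x, z⁆ ∈ S.Cn (j + 1) := by
    intro j
    induction j with
    | zero => exact fun _ => h3c
    | succ j ih =>
      intro hj x hx z hz
      have hc := S.comm_mem x hz
      have e : ⁅x, z * z⁆ = ⁅x, z⁆ * ⁅x, z⁆ := by
        have e' : ⁅x, z * z⁆ = ⁅x, z⁆ * (z * ⁅x, z⁆ * z⁻¹) := by simp [commutatorElement_def, mul_assoc]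
        rw [e', hI.comm z (hA (by omega) hz) _ (hA (by omega) hc), mul_inv_cancel_right]
      have h1 := ih (by omega) x hx (z * z) (S.sq_mem _ hz)
      rw [e] at h1
      refine S.mem_of_δ ?_
      rw [eq_inv_of_mul_eq_one_left (hI.inv _ (hA (by omega) hc))]
      exact inv_mem h1
  -- squares of the new elements
  have hs : ∀ x ∈ S.Cn (n + 3 + 1), S.La (n + 2) (x * x) = S.La (n + 3) x := by
    intro x hx
    have hy := S.δ_mem hx
    have hd : ⁅x⁻¹, S.δ x⁆ ∈ S.Cn (n + 1) := hdrop n le_rfl x⁻¹ (inv_mem hx) _ hy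
    rw [S.La_succ, S.δ_mul, show x⁻¹ * S.δ x * x * S.δ x = ⁅x⁻¹, S.δ x⁆ * (S.δ x * S.δ x) by
      rw [commutatorElement_def]; group, S.La_succ (n + 2),
      S.La_mul (S.Cn_le_succ _ hd) (S.sq_mem _ hy), (S.La_eq_zero (S.Cn_le_succ _ hd)).2 hd, zero_add,
      S.La_sq hI (j := n + 1) hy (by omega)]
  -- the new term centralizes the old one
  have hcen : ∀ k, k ≤ n + 1 → ∀ x ∈ S.Cn (n + 3 + 1), ∀ z ∈ S.Cn (k + 2), ⁅x, z⁆ = 1 := by
    intro k
    induction k with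
    | zero => exact fun _ => h2c
    | succ k ih =>
      intro hk
      have ihk := ih (by omega)
      have h1 : ∀ x ∈ S.Cn (n + 3 + 1), ∀ z ∈ S.Cn (k + 1 + 2), ⁅x, z⁆ ∈ S.Cn 1 := by
        intro x hx z hz
        have hc : ⁅x, z⁆ ∈ S.Cn (n + 3) := hA (by omega) (S.comm_mem x hz)
        have e : ⁅x, z * z⁆ = ⁅x, z⁆ * ⁅x, z⁆ := by
          have e' : ⁅x, z * z⁆ = ⁅x, z⁆ * (z * ⁅x, z⁆ * z⁻¹) := by simp [commutatorElement_def, mul_assoc]
          rw [e', hI.comm z (hA (by omega) hz) _ hc, mul_inv_cancel_right]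
        rw [ihk x hx _ (S.sq_mem _ hz)] at e
        refine S.mem_of_δ ?_
        have h := hI.inv _ hc
        rw [← e, mul_one] at h
        exact S.mem_zero.2 h
      obtain ⟨ν, hν⟩ := S.pairing (i := n + 3) (j := k + 2) (k := 0) htop
        (S.Cn_top (by omega) htop) h1
        (fun x hx z hz => by rw [hcomm1 hx (hA (by omega) hz)]; exact one_mem _)
        (fun x hx z hz => S.mem_zero.2 (ihk x hx z hz))
      have hν0 : ν = 0 := by
        have hsA : x1 * x1 ∈ S.Cn (k + 2 + (n - k) + 1) := by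
          rw [show k + 2 + (n - k) + 1 = n + 3 by omega]; exact S.sq_mem _ hx1
        obtain ⟨h4, h5⟩ := S.La_pow hI (n - k) (k + 2) (by omega) _ hsA
        rw [show k + 2 + (n - k) = n + 2 by omega, hs x1 hx1, hx11] at h5
        have h6 : ⁅x1, (x1 * x1) ^ 2 ^ (n - k)⁆ = 1 := commutatorElement_eq_one_iff_mul_comm.2
          ((((Commute.refl x1).mul_right (Commute.refl x1))).pow_right _)
        have h := hν x1 hx1 _ h4
        rw [h6, (S.La_eq_zero (one_mem _)).2 (one_mem _), hx11, h5] at h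
        simpa using h.symm
      intro x hx z hz
      have h := hν x hx z hz
      rw [hν0, zero_mul] at h
      exact S.mem_zero.1 ((S.La_eq_zero (h1 x hx z hz)).1 (pow_eq_zero_iff two_ne_zero |>.1 h))
  have hXA : ∀ x ∈ S.Cn (n + 3 + 1), ∀ z ∈ S.Cn (n + 3), x * z = z * x := fun x hx z hz =>
    commutatorElement_eq_one_iff_mul_comm.1 (hcen (n + 1) le_rfl x hx z (by
      rwa [show n + 1 + 2 = n + 3 by omega]))
  have hg : ∀ x ∈ S.Cn (n + 3 + 1), ∀ y ∈ S.Cn (n + 3 + 1), ⁅x, y⁆ ∈ S.Cn 1 := by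
    intro x hx y hy
    have hc := S.comm_mem x hy
    have e : ⁅x * x, y⁆ = x * ⁅x, y⁆ * x⁻¹ * ⁅x, y⁆ := by simp [commutatorElement_def, mul_assoc]
    rw [commutatorElement_eq_one_iff_mul_comm.2 ((hXA y hy _ (S.sq_mem _ hx)).symm), hXA x hx _ hc,
      mul_inv_cancel_right] at e
    refine S.mem_of_δ ?_
    have h := hI.inv _ hc
    rw [← e, mul_one] at h
    exact S.mem_zero.2 h
  have hfin := S.pairing_self (i := n + 3) (k := 0) htop hg (fun x hx y hy => by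
    rw [commutatorElement_eq_one_iff_mul_comm.2 (hXA y hy x hx).symm]; exact one_mem _)
  intro x hx y hy
  exact commutatorElement_eq_one_iff_mul_comm.1 (S.mem_zero.1 (hfin x hx y hy))

/-- The shape of a non-abelian group: three layers, with the Suzuki relations. -/
theorem Setup.shape (hna : ∃ a b : Q, a * b ≠ b * a) :
    S.Cn 3 = ⊤ ∧ S.Cn 2 ≠ ⊤ ∧ (∀ x, x * x ∈ S.Cn 1) ∧ (∀ c ∈ S.Cn 1, ∀ g : Q, g * c = c * g) ∧
      (∀ x ∈ S.Cn 2, S.L (x * x) = S.La 1 x) ∧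
      ∀ x : Q, ∀ y ∈ S.Cn 2, S.L ⁅x, y⁆ ^ 2 = S.La 2 x * S.La 1 y := by
  have hC1 : ∀ c ∈ S.Cn 1, ∀ g : Q, g * c = c * g := fun c hc g =>
    commutatorElement_eq_one_iff_mul_comm.1 (S.mem_zero.1 (S.comm_mem g hc))
  have htop_ab : ∀ m, (∀ x ∈ S.Cn m, ∀ y ∈ S.Cn m, x * y = y * x) → S.Cn m ≠ ⊤ := by
    intro m h hm
    obtain ⟨a, b, hab⟩ := hna
    exact hab (h a (hm ▸ Subgroup.mem_top a) b (hm ▸ Subgroup.mem_top b))
  have c1 : ∀ x ∈ S.Cn 1, ∀ y ∈ S.Cn 1, x * y = y * x := fun x hx y hy => hC1 y hy x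
  have t1 := htop_ab 1 c1
  have I1 := S.inv_step S.inv_zero c1 t1
  have c2 : ∀ x ∈ S.Cn 2, ∀ y ∈ S.Cn 2, x * y = y * x := by
    intro x hx y hy
    exact commutatorElement_eq_one_iff_mul_comm.1 (S.mem_zero.1 (S.pairing_self (i := 1) (k := 0) t1
      (fun x _ y hy => S.comm_mem x hy)
      (fun x hx y _ => S.mem_zero.2 (commutatorElement_eq_one_iff_mul_comm.2 (hC1 x hx y).symm))
      x hx y hy))
  have t2 := htop_ab 2 c2
  have I2 := S.inv_step I1 c2 t2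
  have hcC : ∀ {a b : Q}, a ∈ S.Cn 2 → b ∈ S.Cn 2 → ⁅a, b⁆ = 1 := fun ha hb =>
    commutatorElement_eq_one_iff_mul_comm.2 (c2 _ ha _ hb)
  obtain ⟨μ, hμ⟩ := S.pairing (i := 2) (j := 1) (k := 0) t2 t1 (fun x _ y hy => S.comm_mem x hy)
    (fun x hx y hy => S.mem_zero.2 (hcC hx hy))
    (fun x _ y hy => S.mem_zero.2 (commutatorElement_eq_one_iff_mul_comm.2 (hC1 y hy x)))
  have h33 : ∀ x ∈ S.Cn 3, ∀ y ∈ S.Cn 3, ⁅x, y⁆ ∈ S.Cn 1 :=
    S.pairing_self (i := 2) (k := 1) t2 (fun x _ y hy => S.comm_mem x hy)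
      (fun x hx y _ => S.comm_mem' y hx)
  have hmul : ∀ x ∈ S.Cn 3, ∀ y ∈ S.Cn 3,
      S.La 1 ((x * y) * (x * y)) = S.La 1 (x * x) + S.La 1 (y * y) := by
    intro x hx y hy
    have hc := h33 y hy x hx
    have e : (x * y) * (x * y) = ⁅y, x⁆ * ((x * x) * (y * y)) := by
      have h := hC1 _ hc x
      have hyx : y * x = ⁅y, x⁆ * (x * y) := by rw [commutatorElement_def]; group
      calc (x * y) * (x * y) = x * (y * x) * y := by group
        _ = x * ⁅y, x⁆ * (x * y) * y := by rw [hyx]; group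
        _ = ⁅y, x⁆ * x * (x * y) * y := by rw [h]
        _ = _ := by group
    have hc2 := S.Cn_le_succ 1 hc
    rw [e, S.La_mul hc2 (mul_mem (S.sq_mem 2 hx) (S.sq_mem 2 hy)), (S.La_eq_zero hc2).2 hc,
      zero_add, S.La_mul (S.sq_mem 2 hx) (S.sq_mem 2 hy)]
  obtain ⟨γ, hγ⟩ := S.linear (i := 2) (k := 1) t2 (fun x => x * x) (fun x hx => S.sq_mem 2 hx) hmul
    (fun x hx => S.sq_mem 1 hx) (fun x => (map_mul S.ρ x x).symm)
  have hL1 : ∀ y ∈ S.Cn 2, S.La 0 (y * y) = S.La 1 y := fun y hy => S.La_sq I2 hy le_rfl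
  obtain ⟨x0, hx0, hx01⟩ := S.La_surj t2 1
  have hμγ : μ = (γ + 1) ^ 2 ∧ μ * γ = 0 := by
    have hy := S.δ_mem hx0
    have hy1 : S.La 1 (S.δ x0) = 1 := by rw [← S.La_succ, hx01]
    have h1 := hγ x0 hx0
    rw [S.La_succ, S.δ_mul, show x0⁻¹ * S.δ x0 * x0 * S.δ x0 = ⁅x0⁻¹, S.δ x0⁆ * (S.δ x0 * S.δ x0) by
      rw [commutatorElement_def]; group, S.La_mul (S.comm_mem _ hy) (S.sq_mem 1 hy), hL1 _ hy, hy1,
      hx01, mul_one] at h1
    have h2 := hμ _ (inv_mem hx0) _ hy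
    rw [S.La_inv hx0, hx01, hy1, mul_one, mul_one] at h2
    have h3 : S.La 0 ⁅x0⁻¹, S.δ x0⁆ = γ + 1 := by
      rw [← h1, add_assoc, S.add_self, add_zero]
    rw [h3] at h2
    refine ⟨h2.symm, ?_⟩
    have h4 := hμ x0 hx0 (x0 * x0) (S.sq_mem 2 hx0)
    rw [commutatorElement_eq_one_iff_mul_comm.2 (mul_assoc x0 x0 x0).symm,
      (S.La_eq_zero (one_mem _)).2 (one_mem _), hγ x0 hx0, hx01, mul_one, one_mul] at h4
    simpa using h4.symm
  by_cases hμ0 : μ = 0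
  · -- then every term is abelian
    exfalso
    have h32 : ∀ x ∈ S.Cn 3, ∀ y ∈ S.Cn 2, ⁅x, y⁆ = 1 := fun x hx y hy => by
      have h := hμ x hx y hy
      rw [hμ0, zero_mul] at h
      exact S.mem_zero.1 ((S.La_eq_zero (S.comm_mem x hy)).1 (pow_eq_zero_iff two_ne_zero |>.1 h))
    have c3 : ∀ x ∈ S.Cn 3, ∀ y ∈ S.Cn 3, x * y = y * x := fun x hx y hy =>
      commutatorElement_eq_one_iff_mul_comm.1 (S.mem_zero.1 (S.pairing_self (i := 2) (k := 0) t2 h33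
        (fun x hx y hy => by
          rw [← commutatorElement_inv, h32 y hy x hx, inv_one]; exact one_mem _) x hx y hy))
    have hall : ∀ k, S.Inv (k + 3) ∧ S.Cn (k + 3) ≠ ⊤ := by
      intro k
      induction k with
      | zero => exact ⟨S.inv_step I2 c3 (htop_ab 3 c3), htop_ab 3 c3⟩
      | succ k ih =>
        have hc := S.big_step (by omega) ih.1 ih.2
        have ht := htop_ab _ hc
        rw [show k + 1 + 3 = k + 3 + 1 by omega]
        exact ⟨S.inv_step ih.1 hc ht, ht⟩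
    obtain ⟨N, hN⟩ := S.exists_top
    exact (hall N).2 (eq_top_iff.2 (hN ▸ S.Cn_mono (Nat.le_add_right N 3)))
  have hγ0 : γ = 0 := (mul_eq_zero.1 hμγ.2).resolve_left hμ0
  have hμ1 : μ = 1 := by rw [hμγ.1, hγ0]; ring
  have t3 : S.Cn 3 = ⊤ := by
    by_contra h
    obtain ⟨x, hx, hx1⟩ := S.La_surj h 1
    have hy := S.δ_mem hx
    have hy1 : S.La 2 (S.δ x) = 1 := by rw [← S.La_succ, hx1]
    have h2 : S.La 1 (S.δ (S.δ x)) = S.La 2 (S.δ x) := (S.La_succ 1 _).symm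
    rw [show S.δ (S.δ x) = (S.δ x * S.δ x)⁻¹ by rw [Setup.δ, S.α_δ, mul_inv_rev],
      S.La_inv (S.sq_mem 2 hy), hγ _ hy, hγ0, zero_mul, hy1] at h2
    exact one_ne_zero h2.symm
  have hall : ∀ x, x ∈ S.Cn 3 := fun x => t3 ▸ Subgroup.mem_top x
  refine ⟨t3, t2, fun x => ?_, hC1, hL1, fun x y hy => ?_⟩
  · exact (S.La_eq_zero (S.sq_mem 2 (hall x))).1 (by rw [hγ x (hall x), hγ0, zero_mul])
  · have := hμ x (hall x) y hy
    rw [hμ1, one_mul] at this
    exact this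

end Cfsg.Agent.TwoAut.DeltaChain
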