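import Cfsg.Prelude.Def_Local
import Cfsg.Agent.PSolv.HallHigman
import Cfsg.Agent.PGroup.Frattini
import Cfsg.Agent.Linear.Orders
import Mathlib

/-!
# The radical quotient of a 2-constrained group inside `SL(4, 2)`
-/

set_option autoImplicit false
set_option linter.all false

namespace Cfsg.Agent.TwoAut

universe u

/-- Automorphisms of an elementary abelian 2-group of order at most 16 act inside `SL(4, 2)`. -/
theorem exists_mulAut_embed {E : Type u} [CommGroup E] [Finite E] (h2 : ∀ e : E, e * e = 1)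
    (hc : Nat.card E ≤ 16) :
    ∃ f : MulAut E →* Matrix.SpecialLinearGroup (Fin 4) (ZMod 2), Function.Injective f := by
  classical
  letI : Module (ZMod 2) (Additive E) := AddCommGroup.zmodModule (fun x => by
    rw [two_nsmul]; exact h2 x)
  have hcard : Nat.card (Additive E) = Nat.card E := rfl
  have hd : Module.finrank (ZMod 2) (Additive E) ≤ 4 := by
    by_contra hcon
    have h := Module.natCard_eq_pow_finrank (K := ZMod 2) (V := Additive E)
    rw [hcard, Nat.card_zmod] at h
    have : 2 ^ 5 ≤ 2 ^ Module.finrank (ZMod 2) (Additive E) :=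
      Nat.pow_le_pow_right (by norm_num) (by omega)
    omega
  set R := Fin (4 - Module.finrank (ZMod 2) (Additive E)) → ZMod 2
  have hW : Module.finrank (ZMod 2) (Additive E × R) = 4 := by
    rw [Module.finrank_prod, Module.finrank_fin_fun]; omega
  let b : Module.Basis (Fin 4) (ZMod 2) (Additive E × R) := Module.finBasisOfFinrankEq _ _ hW
  let L : MulAut E → ((Additive E × R) →ₗ[ZMod 2] (Additive E × R)) := fun σ =>
    LinearMap.prodMap ((MonoidHom.toAdditive σ.toMonoidHom).toZModLinearMap 2) LinearMap.id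
  have hLmul : ∀ σ τ, L (σ * τ) = (L σ).comp (L τ) := fun σ τ => LinearMap.ext fun w => rfl
  have hL1 : L 1 = LinearMap.id := LinearMap.ext fun w => rfl
  have hdet : ∀ σ, (LinearMap.toMatrix b b (L σ)).det = 1 := by
    intro σ
    have hu : ∀ d e : ZMod 2, d * e = 1 → d = 1 := by decide
    apply hu _ (LinearMap.toMatrix b b (L σ⁻¹)).det
    rw [← Matrix.det_mul, ← LinearMap.toMatrix_comp, ← hLmul, mul_inv_cancel, hL1,
      LinearMap.toMatrix_id, Matrix.det_one]
  let f : MulAut E →* Matrix.SpecialLinearGroup (Fin 4) (ZMod 2) :=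
    MonoidHom.mk' (fun σ => ⟨LinearMap.toMatrix b b (L σ), hdet σ⟩) (fun σ τ => Subtype.ext (by
      show LinearMap.toMatrix b b (L (σ * τ)) = LinearMap.toMatrix b b (L σ) * LinearMap.toMatrix b b (L τ)
      rw [hLmul, LinearMap.toMatrix_comp b b b]))
  refine ⟨f, fun σ τ h => MulEquiv.ext fun e => ?_⟩
  have h' : L σ = L τ := (LinearMap.toMatrix b b).injective (congrArg Subtype.val h)
  have := congrArg Prod.fst (LinearMap.congr_fun h' (Additive.ofMul e, 0))
  exact Additive.ofMul.injective this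

/-- For `|F| = 2` the projective and the special linear group coincide. -/
theorem exists_sl_four_embed_psl {F : Type} [Field F] [Fintype F] (hF : Fintype.card F = 2) :
    ∃ f : Matrix.SpecialLinearGroup (Fin 4) F →* Matrix.ProjectiveSpecialLinearGroup (Fin 4) F,
      Function.Injective f := by
  refine ⟨QuotientGroup.mk' _, ?_⟩
  rw [← MonoidHom.ker_eq_bot_iff, QuotientGroup.ker_mk', ← Subgroup.card_eq_one,
    Cfsg.Agent.Linear.card_center_SL, hF]
  simp

/-- A 2-constrained core-free group whose radical has sectional 2-rank at most four embeds, modulo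
its radical, into `SL(4, 2)`. -/
theorem exists_radical_quotient_embed {X : Type u} [Group X] [Finite X]
    (hc : Cfsg.IsPConstrained 2 X) (hO : Cfsg.oddCore X = ⊥)
    (h4 : Cfsg.SectionalPRankLE 2 4 ↥(Cfsg.pCore 2 X)) :
    ∃ f : X ⧸ Cfsg.pCore 2 X →* Matrix.SpecialLinearGroup (Fin 4) (ZMod 2), Function.Injective f := by
  haveI : Fact (Nat.Prime 2) := ⟨Nat.prime_two⟩
  set Q := Cfsg.pCore 2 X with hQdef
  haveI hQn : Q.Normal := inferInstance
  have hQ : IsPGroup 2 Q := Cfsg.Agent.PSolv.isPGroup_pCore 2 X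
  have hCQ := Cfsg.Agent.PSolv.centralizer_pCore_le_of_isPConstrained hc hO
  set Φ := frattini ↥Q with hΦ
  haveI : Φ.Normal := inferInstance
  have hcomm : ∀ a b : ↥Q ⧸ Φ, a * b = b * a := fun a b =>
    QuotientGroup.induction_on a fun x => QuotientGroup.induction_on b fun y => by
      rw [← QuotientGroup.mk_mul, ← QuotientGroup.mk_mul, QuotientGroup.eq]
      have := Cfsg.Agent.PGroup.commutator_le_frattini hQ
        (Subgroup.commutator_mem_commutator (Subgroup.mem_top y⁻¹) (Subgroup.mem_top x⁻¹))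
      convert this using 1
      rw [commutatorElement_def]; group
  letI : CommGroup (↥Q ⧸ Φ) := { (inferInstance : Group (↥Q ⧸ Φ)) with mul_comm := hcomm }
  have hsq : ∀ a : ↥Q ⧸ Φ, a * a = 1 := fun a => QuotientGroup.induction_on a fun x => by
    rw [← QuotientGroup.mk_mul, QuotientGroup.eq_one_iff, ← sq]
    exact Cfsg.Agent.PGroup.pow_mem_frattini hQ x
  have hcard : Nat.card (↥Q ⧸ Φ) ≤ 16 := by
    let e : (↥(⊤ : Subgroup ↥Q) ⧸ Φ.subgroupOf ⊤) ≃* (↥Q ⧸ Φ) :=
      QuotientGroup.congr _ _ Subgroup.topEquiv (by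
        ext y
        simp [Subgroup.mem_subgroupOf])
    rw [← Nat.card_congr e.toEquiv, ← Subgroup.card_top (G := ↥(⊤ : Subgroup ↥Q) ⧸ Φ.subgroupOf ⊤)]
    have hc2 : IsMulCommutative (⊤ : Subgroup (↥(⊤ : Subgroup ↥Q) ⧸ Φ.subgroupOf ⊤)) :=
      ⟨⟨fun a b => Subtype.ext (e.injective (by
        simp only [Subgroup.coe_mul, map_mul]; exact hcomm _ _))⟩⟩
    exact h4 ⊤ (Φ.subgroupOf ⊤) ⊤ hc2 (fun a _ => e.injective (by rw [map_pow, map_one, sq, hsq]))
  obtain ⟨g, hg⟩ := exists_mulAut_embed hsq hcard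
  have hmap : ∀ σ : MulAut ↥Q, Φ.map σ.toMonoidHom = Φ := fun σ =>
    Subgroup.characteristic_iff_map_eq.1 inferInstance σ
  let act : X →* MulAut (↥Q ⧸ Φ) :=
    MonoidHom.mk' (fun x => QuotientGroup.congr Φ Φ (MulAut.conjNormal x) (hmap _)) (fun x y => by
      apply MulEquiv.ext
      intro q
      refine QuotientGroup.induction_on q fun w => ?_
      show (QuotientGroup.mk (MulAut.conjNormal (x * y) w) : ↥Q ⧸ Φ) =
        QuotientGroup.mk (MulAut.conjNormal x (MulAut.conjNormal y w))
      rw [map_mul]; rfl)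
  have hker : act.ker = Q := by
    have hact : ∀ x, x ∈ act.ker → ∀ w : Q, w⁻¹ * MulAut.conjNormal x w ∈ Φ := fun x hx w => by
      have h1 := DFunLike.congr_fun (MonoidHom.mem_ker.1 hx) (QuotientGroup.mk w)
      have h2 : (QuotientGroup.mk (MulAut.conjNormal x w) : ↥Q ⧸ Φ) = QuotientGroup.mk w := h1
      exact QuotientGroup.eq.1 h2.symm
    refine le_antisymm ?_ (fun x hx => ?_)
    · -- the kernel is a 2-group
      refine Cfsg.Agent.PSolv.le_pCore (MonoidHom.normal_ker act) fun x => ?_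
      obtain ⟨a, m, hm, hd⟩ := Nat.exists_eq_two_pow_mul_odd (orderOf_pos (x : X)).ne'
      refine ⟨a, Subtype.ext ?_⟩
      show (x : X) ^ 2 ^ a = 1
      set y := (x : X) ^ 2 ^ a with hy
      have hym : y ^ m = 1 := by rw [hy, ← pow_mul, ← hd, pow_orderOf_eq_one]
      have hcop : (orderOf y).Coprime 2 := (hm.of_dvd_nat (orderOf_dvd_of_pow_eq_one hym)).coprime_two_right
      have hyQ : y ∈ Q := by
        refine hCQ (Subgroup.mem_centralizer_iff.2 fun w hw => ?_)
        refine (Cfsg.Agent.PGroup.commute_of_coprime_of_frattini hQ hcop ?_ ?_ w hw).symm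
        · rw [Subgroup.normalizer_eq_top_iff.2 hQn]; trivial
        · intro w' hw'
          exact ⟨_, hact y (act.ker.pow_mem x.2 _) ⟨w', hw'⟩, by simp [MulAut.conjNormal_apply]⟩
      obtain ⟨k, hk⟩ := hQ ⟨y, hyQ⟩
      have h1 := Nat.eq_one_of_dvd_coprimes (hcop.pow_right k) dvd_rfl
        (orderOf_dvd_of_pow_eq_one (congrArg Subtype.val hk))
      exact orderOf_eq_one_iff.1 h1
    · rw [MonoidHom.mem_ker]
      apply MulEquiv.ext
      intro q
      refine QuotientGroup.induction_on q fun w => ?_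
      show (QuotientGroup.mk (MulAut.conjNormal x w) : ↥Q ⧸ Φ) = QuotientGroup.mk w
      have hxw : MulAut.conjNormal x w = (⟨x, hx⟩ : Q) * w * (⟨x, hx⟩ : Q)⁻¹ :=
        Subtype.ext (by simp [MulAut.conjNormal_apply])
      rw [hxw, QuotientGroup.mk_mul, QuotientGroup.mk_mul, QuotientGroup.mk_inv, hcomm (QuotientGroup.mk _),
        mul_assoc, mul_inv_cancel, mul_one]
  refine ⟨g.comp (QuotientGroup.lift Q act hker.ge), ?_⟩
  refine hg.comp ?_
  rw [injective_iff_map_eq_one]
  intro q
  refine QuotientGroup.induction_on q fun x hx => ?_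
  rw [QuotientGroup.eq_one_iff]
  have : x ∈ act.ker := hx
  rwa [hker] at this

end Cfsg.Agent.TwoAut
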