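import Mathlib

/-!
# Automorphisms of order five of groups of order at most sixteen
-/

set_option autoImplicit false
set_option linter.all false

namespace Cfsg.Agent.TwoAut.OrderFive

universe u

/-- Fixed points of a permutation of prime order. -/
theorem perm_modEq_fixed {α : Type u} [Finite α] (p : ℕ) [Fact p.Prime] (e : Equiv.Perm α)
    (he : e ^ p = 1) : Nat.card α ≡ Nat.card {a // e a = a} [MOD p] := by
  classical
  have hp : IsPGroup p (Subgroup.zpowers e) := by
    intro g
    obtain ⟨k, hk⟩ := Subgroup.mem_zpowers_iff.1 g.2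
    refine ⟨1, Subtype.ext ?_⟩
    rw [pow_one, Subgroup.coe_pow, ← hk, ← zpow_natCast, zpow_comm, zpow_natCast, he, one_zpow]
    rfl
  have h := hp.card_modEq_card_fixedPoints α
  have heq : MulAction.fixedPoints (Subgroup.zpowers e) α = {a | e a = a} := by
    ext a
    constructor
    · intro h
      exact h ⟨e, Subgroup.mem_zpowers e⟩
    · intro h g
      have hst : e ∈ MulAction.stabilizer (Equiv.Perm α) a := h
      exact (Subgroup.zpowers_le.2 hst) g.2
  rwa [heq] at h

/-- A nontrivial automorphism of order five of a 2-group of order at most 16 is fixed-point-free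
and the group has order 16. -/
theorem five_fpf {V : Type u} [Group V] [Finite V] (hV : IsPGroup 2 V) (h16 : Nat.card V ≤ 16)
    (ρ : MulAut V) (h5 : ρ ^ 5 = 1) (hne : ρ ≠ 1) :
    Nat.card V = 16 ∧ ∀ v, ρ v = v → v = 1 := by
  haveI : Fact (Nat.Prime 5) := ⟨by norm_num⟩
  let C : Subgroup V := ρ.toMonoidHom.eqLocus (MonoidHom.id V)
  have hmem : ∀ v, v ∈ C ↔ ρ v = v := fun v => Iff.rfl
  have hlt : Nat.card C < Nat.card V := by
    refine lt_of_le_of_ne (Nat.le_of_dvd Nat.card_pos (Subgroup.card_subgroup_dvd_card C)) fun h => hne ?_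
    have := Subgroup.eq_top_of_card_eq C h
    refine MulEquiv.ext fun v => ?_
    exact (hmem v).1 (this ▸ Subgroup.mem_top v)
  have hm := perm_modEq_fixed 5 (MulAut.toPerm V ρ) (by rw [← map_pow, h5, map_one])
  change Nat.card V ≡ Nat.card C [MOD 5] at hm
  obtain ⟨k, hk⟩ := hV.exists_card_eq
  obtain ⟨i, hi⟩ := (hV.to_subgroup C).exists_card_eq
  rw [hk, hi] at hm hlt
  rw [hk] at h16
  have hk4 : k ≤ 4 := by
    by_contra hk4
    have : 2 ^ 5 ≤ 2 ^ k := Nat.pow_le_pow_right (by norm_num) (by omega)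
    omega
  have hik : i < k := (Nat.pow_lt_pow_iff_right (by norm_num)).1 hlt
  have hres : k = 4 ∧ i = 0 := by
    interval_cases k <;> interval_cases i <;> simp_all [Nat.ModEq]
  obtain ⟨rfl, rfl⟩ := hres
  refine ⟨hk, fun v hv => ?_⟩
  have hbot : C = ⊥ := Subgroup.card_eq_one.1 (by rw [hi]; rfl)
  have hvC : v ∈ C := hv
  rwa [hbot, Subgroup.mem_bot] at hvC

/-- Invariant subgroups of a fixed-point-free automorphism of order five. -/
theorem invariant_bot_or_top {V : Type u} [Group V] [Finite V] (hV : IsPGroup 2 V)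
    (h16 : Nat.card V = 16) (ρ : MulAut V) (h5 : ρ ^ 5 = 1) (hfix : ∀ v, ρ v = v → v = 1)
    (K : Subgroup V) (hK : ∀ x ∈ K, ρ x ∈ K) : K = ⊥ ∨ K = ⊤ := by
  have hmap : K.map ρ.toMonoidHom = K := by
    refine Subgroup.eq_of_le_of_card_ge (by rintro _ ⟨x, hx, rfl⟩; exact hK x hx) ?_
    rw [← Nat.card_congr (K.equivMapOfInjective ρ.toMonoidHom ρ.injective).toEquiv]
  let ρK : MulAut K :=
    (K.equivMapOfInjective ρ.toMonoidHom ρ.injective).trans (MulEquiv.subgroupCongr hmap)
  have hval : ∀ (n : ℕ) (x : K), (((ρK ^ n) x : K) : V) = (ρ ^ n) x := by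
    intro n
    induction n with
    | zero => intro x; rfl
    | succ n ih =>
      intro x
      rw [pow_succ', pow_succ']
      show ρ (((ρK ^ n) x : K) : V) = ρ ((ρ ^ n) x)
      rw [ih]
  by_cases h1 : ρK = 1
  · left
    rw [eq_bot_iff]
    intro x hx
    refine Subgroup.mem_bot.2 (hfix x ?_)
    exact congrArg Subtype.val (DFunLike.congr_fun h1 ⟨x, hx⟩)
  · right
    refine Subgroup.eq_top_of_card_eq K ?_
    rw [h16]
    exact (five_fpf (hV.to_subgroup K) ((Subgroup.card_le_card_group K).trans h16.le) ρK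
      (MulEquiv.ext fun x => Subtype.ext (by rw [hval, h5]; rfl)) h1).1

/-- An involution inverting a fixed-point-free automorphism of order five fixes few points. -/
theorem card_fixed_sq_le {M : Type u} [CommGroup M] [Finite M] (ρ σ : MulAut M) (h5 : ρ ^ 5 = 1)
    (hfix : ∀ v, ρ v = v → v = 1) (hinv : ∀ x, σ (ρ x) = ρ.symm (σ x)) (C : Subgroup M)
    (hC : ∀ x, x ∈ C ↔ σ x = x) : Nat.card C * Nat.card C ≤ Nat.card M := by
  rw [← Nat.card_prod]
  refine Nat.card_le_card_of_injective (fun p => (p.1 : M) * ρ p.2) fun p q h => ?_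
  have key : ∀ a, a ∈ C → ρ a ∈ C → a = 1 := by
    intro a ha hra
    have h1 : ρ.symm a = ρ a := by
      have := hinv a
      rw [(hC a).1 ha, (hC _).1 hra] at this
      exact this.symm
    have h2 : ρ (ρ a) = a := by
      rw [← h1, MulEquiv.apply_symm_apply]
    have h5' : ρ (ρ (ρ (ρ (ρ a)))) = a := DFunLike.congr_fun h5 a
    rw [h2, h2] at h5'
    exact hfix a h5'
  set a : M := (p.2 : M) / q.2 with ha
  have hr : ρ a = (q.1 : M) / p.1 := by
    rw [ha, map_div]
    rw [div_eq_div_iff_mul_eq_mul]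
    simp only at h
    rw [mul_comm]
    exact h.trans (mul_comm _ _) |>.trans (mul_comm _ _)
  have := key a (C.div_mem p.2.2 q.2.2) (hr ▸ C.div_mem q.1.2 p.1.2)
  rw [this, map_one] at hr
  refine Prod.ext (Subtype.ext ?_) (Subtype.ext ?_)
  · exact (div_eq_one.1 hr.symm).symm
  · exact div_eq_one.1 this

end Cfsg.Agent.TwoAut.OrderFive
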