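import Cfsg.Agent.TwoAut.Anisotropic
import Cfsg.Agent.SmallGroups.Basic
import Cfsg.Agent.Linear.OrderSixty
import Cfsg.Agent.Alt.Basic
import Cfsg.Agent.Alt.Automorphism
import Cfsg.Agent.PSolv.Cores
import Cfsg.Agent.S0678
import Mathlib

/-!
# Non-solvable groups of small degree
-/

set_option autoImplicit false
set_option linter.all false

namespace Cfsg.Agent.TwoAut.SubEight

open Equiv Cfsg

universe u

theorem dvd_of_nonsolvable {G : Type u} [Group G] [Finite G] (h : Nat.card G ∣ 20160)
    (hG : ¬ Group.IsSolvable G) :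
    60 ∣ Nat.card G ∨ 84 ∣ Nat.card G ∨ 140 ∣ Nat.card G := by
  suffices H : ∀ n, ∀ (G : Type u) [Group G] [Finite G], Nat.card G = n → n ∣ 20160 →
      ¬ Group.IsSolvable G → 60 ∣ n ∨ 84 ∣ n ∨ 140 ∣ n from H _ G rfl h hG
  intro n
  induction n using Nat.strong_induction_on with
  | _ n ih =>
    intro G _ _ hn hd hG
    by_cases hs : IsSimpleGroup G
    · have hnc : ¬ IsMulCommutative G := fun hc =>
        hG (Group.isSolvable_of_comm fun a b => hc.is_comm.comm a b)
      have hpr : ∀ r, r.Prime → r ∣ n → r = 2 ∨ r = 3 ∨ r = 5 ∨ r = 7 := by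
        intro r hr hrn
        have hle : r ∣ 2 ^ 6 * (3 ^ 2 * (5 * 7)) := by
          have := hrn.trans hd
          norm_num
          exact this
        rcases (Nat.Prime.dvd_mul hr).1 hle with h | h
        · exact Or.inl ((Nat.prime_dvd_prime_iff_eq hr Nat.prime_two).1 (hr.dvd_of_dvd_pow h))
        rcases (Nat.Prime.dvd_mul hr).1 h with h | h
        · exact Or.inr (Or.inl ((Nat.prime_dvd_prime_iff_eq hr Nat.prime_three).1
            (hr.dvd_of_dvd_pow h)))
        rcases (Nat.Prime.dvd_mul hr).1 h with h | h
        · exact Or.inr (Or.inr (Or.inl ((Nat.prime_dvd_prime_iff_eq hr Nat.prime_five).1 h)))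
        · exact Or.inr (Or.inr (Or.inr ((Nat.prime_dvd_prime_iff_eq hr (by norm_num)).1 h)))
      have two : ∀ p q, p.Prime → q.Prime →
          (∀ r, r.Prime → r ∣ n → r = p ∨ r = q) → False := fun p q hp hq hall =>
        hG (Cfsg.Agent.Char.solvable_of_card_eq_pow_mul_pow p q hp hq n hn hall)
      have h2 : 2 ∣ n := by
        by_contra h2
        by_cases h5 : 5 ∣ n
        · haveI : Fact (Nat.Prime 5) := ⟨Nat.prime_five⟩
          let P : Sylow 5 G := default
          obtain ⟨m, hm⟩ := h5
          have hm5 : ¬ 5 ∣ m := fun ⟨j, hj⟩ => by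
            have h' : 25 ∣ 20160 := ((by exact ⟨j, by rw [hm, hj]; ring⟩ : 25 ∣ n)).trans hd
            norm_num at h'
          have hP : Nat.card (P : Subgroup G) = 5 :=
            (SmallGroups.card_sylow_subgroup (a := 1) (m := m) (by rw [hn, pow_one]; exact hm) hm5 P).trans
              (pow_one 5)
          obtain ⟨hr, hr1⟩ := SmallGroups.relIndex_centralizer_prime hnc P hP
          have hrn := (Subgroup.relIndex_dvd_card (Subgroup.centralizer ((P : Subgroup G) : Set G))
            (Subgroup.normalizer ((P : Subgroup G) : Set G))).trans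
            (Subgroup.card_subgroup_dvd_card _)
          rw [hn] at hrn
          have hr4 := Nat.le_of_dvd (by norm_num) hr
          have hne : ¬ 2 ∣ (Subgroup.centralizer ((P : Subgroup G) : Set G)).relIndex
              (Subgroup.normalizer ((P : Subgroup G) : Set G)) := fun h => h2 (h.trans hrn)
          generalize (Subgroup.centralizer ((P : Subgroup G) : Set G)).relIndex
              (Subgroup.normalizer ((P : Subgroup G) : Set G)) = r at *
          interval_cases r <;> omega
        · refine two 3 7 Nat.prime_three (by norm_num) fun r hr hrn => ?_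
          rcases hpr r hr hrn with rfl | rfl | rfl | rfl
          · exact absurd hrn h2
          · exact Or.inl rfl
          · exact absurd hrn h5
          · exact Or.inr rfl
      have h4 : 4 ∣ n := hn ▸ SmallGroups.four_dvd_card hnc (hn ▸ h2)
      by_cases h3 : 3 ∣ n
      · by_cases h5 : 5 ∣ n
        · left; omega
        · by_cases h7 : 7 ∣ n
          · right; left; omega
          · exfalso
            refine two 2 3 Nat.prime_two Nat.prime_three fun r hr hrn => ?_
            rcases hpr r hr hrn with rfl | rfl | rfl | rfl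
            · exact Or.inl rfl
            · exact Or.inr rfl
            · exact absurd hrn h5
            · exact absurd hrn h7
      · by_cases h5 : 5 ∣ n
        · by_cases h7 : 7 ∣ n
          · right; right; omega
          · exfalso
            refine two 2 5 Nat.prime_two Nat.prime_five fun r hr hrn => ?_
            rcases hpr r hr hrn with rfl | rfl | rfl | rfl
            · exact Or.inl rfl
            · exact absurd hrn h3
            · exact Or.inr rfl
            · exact absurd hrn h7
        · exfalso
          refine two 2 7 Nat.prime_two (by norm_num) fun r hr hrn => ?_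
          rcases hpr r hr hrn with rfl | rfl | rfl | rfl
          · exact Or.inl rfl
          · exact absurd hrn h3
          · exact absurd hrn h5
          · exact Or.inr rfl
    · haveI : Nontrivial G := by
        by_contra hc
        rw [not_nontrivial_iff_subsingleton] at hc
        exact hG (Group.isSolvable_of_comm fun a b => Subsingleton.elim _ _)
      obtain ⟨N, hN, hN1, hN2⟩ : ∃ N : Subgroup G, N.Normal ∧ N ≠ ⊥ ∧ N ≠ ⊤ := by
        by_contra hc
        push Not at hc
        exact hs ⟨fun N hN => or_iff_not_imp_left.2 (hc N hN)⟩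
      haveI := hN
      have hmul : Nat.card N * N.index = n := by rw [← hn]; exact N.card_mul_index
      have hi : 1 < N.index := N.one_lt_index_of_ne_top hN2
      have hc : 1 < Nat.card N := (Subgroup.one_lt_card_iff_ne_bot N).2 hN1
      by_cases hsN : Group.IsSolvable N
      · have hq : ¬ Group.IsSolvable (G ⧸ N) := fun hq => hG
          (solvable_of_hom (QuotientGroup.mk' N) hq (by rw [QuotientGroup.ker_mk']; exact hsN))
        have hdq : N.index ∣ n := Dvd.intro_left _ hmul
        have hlt : N.index < n := by rw [← hmul]; exact lt_mul_left (by omega) hc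
        rcases ih _ hlt (G ⧸ N) N.index_eq_card.symm (hdq.trans hd) hq with h | h | h
        · exact Or.inl (h.trans hdq)
        · exact Or.inr (Or.inl (h.trans hdq))
        · exact Or.inr (Or.inr (h.trans hdq))
      · have hdq : Nat.card N ∣ n := Dvd.intro _ hmul
        have hlt : Nat.card N < n := by rw [← hmul]; exact lt_mul_right (by omega) hi
        rcases ih _ hlt N rfl (hdq.trans hd) hsN with h | h | h
        · exact Or.inl (h.trans hdq)
        · exact Or.inr (Or.inl (h.trans hdq))
        · exact Or.inr (Or.inr (h.trans hdq))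

theorem simple_of_proper {G : Type u} [Group G] [Finite G] (h : Nat.card G ∣ 20160)
    (hG : ¬ Group.IsSolvable G)
    (hd : ∀ (H : Type u) [Group H] [Finite H], Nat.card H ∣ Nat.card G →
      Nat.card H < Nat.card G → Group.IsSolvable H) : IsSimpleGroup G := by
  haveI : Nontrivial G := by
    by_contra hc
    rw [not_nontrivial_iff_subsingleton] at hc
    exact hG (Group.isSolvable_of_comm fun a b => Subsingleton.elim _ _)
  refine ⟨fun N hN => ?_⟩
  haveI := hN
  by_contra hc
  push Not at hc
  have hi : 1 < N.index := N.one_lt_index_of_ne_top hc.2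
  have hn : 1 < Nat.card N := (Subgroup.one_lt_card_iff_ne_bot N).2 hc.1
  have hmul := N.card_mul_index
  refine hG (solvable_of_hom (QuotientGroup.mk' N) (hd _ ?_ ?_) ?_)
  · rw [← Subgroup.index_eq_card]; exact Dvd.intro_left _ hmul
  · rw [← Subgroup.index_eq_card, ← hmul]; exact lt_mul_left (by omega) hn
  · rw [QuotientGroup.ker_mk']
    exact hd N (Dvd.intro _ hmul) (by rw [← hmul]; exact lt_mul_right (by omega) hi)

theorem solvable_eighty_four {G : Type u} [Group G] [Finite G] (h : Nat.card G = 84) :
    Group.IsSolvable G := by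
  by_contra hG
  haveI : IsSimpleGroup G := simple_of_proper (by rw [h]; norm_num) hG (fun H _ _ hd hlt => by
    by_contra hH
    have h1 := dvd_of_nonsolvable (hd.trans (by rw [h]; norm_num)) hH
    have hpos : 0 < Nat.card H := Nat.card_pos
    rw [h] at hd hlt
    rcases h1 with h1 | h1 | h1 <;> obtain ⟨k, hk⟩ := h1 <;>
      [(have : Nat.card H = 60 := by omega); omega; omega]
    rw [this] at hd
    norm_num at hd)
  haveI : Fact (Nat.Prime 7) := ⟨by norm_num⟩
  have hmem := SmallGroups.card_sylow_mem (SmallGroups.not_isMulCommutative (by rw [h]; norm_num))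
    (p := 7) (a := 0) (m := 12) (by rw [h]; norm_num) (by norm_num)
  revert hmem
  generalize Nat.card (Sylow 7 G) = k
  intro hmem
  rw [Finset.mem_filter, Nat.mem_divisors] at hmem
  have := Nat.le_of_dvd (by norm_num) hmem.1.1
  interval_cases k <;> omega

theorem simple_sixty {G : Type u} [Group G] [Finite G] (h : Nat.card G = 60)
    (hG : ¬ Group.IsSolvable G) : IsSimpleGroup G :=
  simple_of_proper (by rw [h]; norm_num) hG (fun H _ _ hd hlt => by
    by_contra hH
    have h1 := dvd_of_nonsolvable (hd.trans (by rw [h]; norm_num)) hH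
    have hpos : 0 < Nat.card H := Nat.card_pos
    omega)

theorem simple_one_sixty_eight {G : Type u} [Group G] [Finite G] (h : Nat.card G = 168)
    (hG : ¬ Group.IsSolvable G) : IsSimpleGroup G :=
  simple_of_proper (by rw [h]; norm_num) hG (fun H _ _ hd hlt => by
    by_contra hH
    have h1 := dvd_of_nonsolvable (hd.trans (by rw [h]; norm_num)) hH
    have hpos : 0 < Nat.card H := Nat.card_pos
    rw [h] at hd hlt
    rcases h1 with h1 | h1 | h1 <;> obtain ⟨k, hk⟩ := h1
    · have : Nat.card H = 60 ∨ Nat.card H = 120 := by omega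
      rcases this with h2 | h2 <;> rw [h2] at hd <;> norm_num at hd
    · exact hH (solvable_eighty_four (by omega))
    · have : Nat.card H = 140 := by omega
      rw [this] at hd
      norm_num at hd)

theorem sixty_dvd {G : Type u} [Group G] [Finite G] {N : ℕ} (hN : N ∣ 720)
    (h : Nat.card G ∣ N) (hG : ¬ Group.IsSolvable G) : 60 ∣ Nat.card G := by
  have h7 : ¬ 7 ∣ Nat.card G := fun h7 => by
    have := (h7.trans h).trans hN
    norm_num at this
  rcases dvd_of_nonsolvable ((h.trans hN).trans (by norm_num)) hG with h1 | h1 | h1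
  · exact h1
  · exact absurd ((by norm_num : 7 ∣ 84).trans h1) h7
  · exact absurd ((by norm_num : 7 ∣ 140).trans h1) h7

theorem equiv_alt_of_inj {G : Type u} [Group G] [Finite G] {α : Type} [Fintype α] [DecidableEq α]
    (φ : G →* Perm α) (hφ : Function.Injective φ) (he : ∀ g, Perm.sign (φ g) = 1)
    (hc : Nat.card (alternatingGroup α) ≤ Nat.card G) : Nonempty (G ≃* alternatingGroup α) := by
  let ψ : G →* alternatingGroup α := φ.codRestrict _ (fun g => Perm.mem_alternatingGroup.2 (he g))
  have hψ : Function.Injective ψ := fun a b h => hφ (congrArg Subtype.val h)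
  exact ⟨MulEquiv.ofBijective ψ (hψ.bijective_of_nat_card_le hc)⟩

theorem equiv_perm_of_inj {G : Type u} [Group G] [Finite G] {α : Type} [Finite α]
    (φ : G →* Perm α) (hφ : Function.Injective φ) (hc : Nat.card (Perm α) ≤ Nat.card G) :
    Nonempty (G ≃* Perm α) :=
  ⟨MulEquiv.ofBijective φ (hφ.bijective_of_nat_card_le hc)⟩

theorem card_alt (n f : ℕ) (hn : 2 ≤ n) (hf : n.factorial = 2 * f) :
    Nat.card (alternatingGroup (Fin n)) = f := by
  haveI : Nontrivial (Fin n) := Fin.nontrivial_iff_two_le.2 hn
  have h := two_mul_nat_card_alternatingGroup (α := Fin n)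
  rw [Nat.card_perm, Nat.card_fin, hf] at h
  omega

theorem card_perm_fin (n : ℕ) : Nat.card (Perm (Fin n)) = n.factorial := by
  rw [Nat.card_perm, Nat.card_fin]

theorem five {G : Type u} [Group G] [Finite G] (φ : G →* Perm (Fin 5))
    (hφ : Function.Injective φ) (hG : ¬ Group.IsSolvable G) :
    Nonempty (G ≃* alternatingGroup (Fin 5)) ∨ Nonempty (G ≃* Perm (Fin 5)) := by
  have hd : Nat.card G ∣ 120 := by
    have := Subgroup.card_dvd_of_injective φ hφ
    rw [card_perm_fin] at this
    exact this
  obtain ⟨k, hk⟩ := sixty_dvd (by norm_num : 120 ∣ 720) hd hG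
  have hk2 : k = 1 ∨ k = 2 := by
    have := Nat.le_of_dvd (by norm_num) hd
    have : 0 < Nat.card G := Nat.card_pos
    omega
  rcases hk2 with rfl | rfl
  · haveI := simple_sixty hk hG
    exact Or.inl (Linear.simple_order_sixty_iso hk)
  · exact Or.inr (equiv_perm_of_inj φ hφ (by rw [card_perm_fin, hk]; rfl))

theorem six {G : Type u} [Group G] [Finite G] (φ : G →* Perm (Fin 6))
    (hφ : Function.Injective φ) (hG : ¬ Group.IsSolvable G) (hO : pCore 2 G = ⊥) :
    Nonempty (G ≃* alternatingGroup (Fin 5)) ∨ Nonempty (G ≃* Perm (Fin 5)) ∨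
      Nonempty (G ≃* alternatingGroup (Fin 6)) ∨ Nonempty (G ≃* Perm (Fin 6)) := by
  haveI : Fact (Nat.Prime 2) := ⟨Nat.prime_two⟩
  have hd : Nat.card G ∣ 720 := by
    have := Subgroup.card_dvd_of_injective φ hφ
    rw [card_perm_fin] at this
    exact this
  let J : Subgroup G := (Perm.sign.comp φ).ker
  haveI : J.Normal := MonoidHom.normal_ker _
  have hJ2 : J.index = 1 ∨ J.index = 2 := by
    have h1 : J.index ∣ 2 := by
      rw [Subgroup.index_ker]
      refine (Subgroup.card_subgroup_dvd_card _).trans ?_
      rw [Nat.card_eq_fintype_card, Fintype.card_units_int]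
    exact (Nat.dvd_prime Nat.prime_two).1 h1
  have hJs : ¬ Group.IsSolvable J := fun hs => hG (solvable_of_hom (Perm.sign.comp φ)
    (Group.isSolvable_of_comm fun a b => mul_comm a b) hs)
  let ψ : J →* alternatingGroup (Fin 6) :=
    (φ.comp J.subtype).codRestrict _ (fun g => Perm.mem_alternatingGroup.2 g.2)
  have hψ : Function.Injective ψ := fun a b h =>
    Subtype.ext (hφ (congrArg Subtype.val h))
  have hr : Nat.card ψ.range = Nat.card J :=
    (Nat.card_congr (MonoidHom.ofInjective hψ).toEquiv).symm
  have hA : Nat.card (alternatingGroup (Fin 6)) = 360 := card_alt 6 360 (by norm_num) rfl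
  have hJd : Nat.card J ∣ 360 := hA ▸ Subgroup.card_dvd_of_injective ψ hψ
  obtain ⟨k, hk⟩ := sixty_dvd (by norm_num : 360 ∣ 720) hJd hJs
  have hk2 : k = 1 ∨ k = 6 := by
    by_cases htop : ψ.range = ⊤
    · rw [htop, Subgroup.card_top, hA, hk] at hr
      omega
    · have h1 := Alt.card_le_index_alt (by rw [Nat.card_fin]; norm_num) htop
      have h2 := ψ.range.card_mul_index
      rw [hr, hA, hk] at h2
      rw [Nat.card_fin] at h1
      have : 60 * k * 6 ≤ 60 * k * ψ.range.index := Nat.mul_le_mul_left _ h1
      have : 0 < Nat.card J := Nat.card_pos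
      omega
  have hmul := J.card_mul_index
  rcases hk2 with rfl | rfl
  · haveI := simple_sixty hk hJs
    obtain ⟨e⟩ := Linear.simple_order_sixty_iso hk
    rcases hJ2 with h1 | h1
    · rw [Subgroup.index_eq_one] at h1
      exact Or.inl ⟨(Subgroup.topEquiv.symm.trans (MulEquiv.subgroupCongr h1.symm)).trans e⟩
    · right; left
      rw [hk, h1] at hmul
      let c : G →* MulAut J := MulAut.conjNormal
      have hc : c.ker = ⊥ := by
        rw [← le_bot_iff, ← hO]
        refine PSolv.le_pCore (MonoidHom.normal_ker c) ?_
        have hdis : Disjoint J c.ker := by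
          rw [Subgroup.disjoint_def]
          intro x hxJ hxc
          have hz : (⟨x, hxJ⟩ : J) ∈ Subgroup.center J := by
            rw [Subgroup.mem_center_iff]
            intro y
            have h2 := DFunLike.congr_fun (MonoidHom.mem_ker.1 hxc) y
            have h3 : x * y * x⁻¹ = (y : G) := by simpa [c] using congrArg Subtype.val h2
            exact Subtype.ext (mul_inv_eq_iff_eq_mul.1 h3).symm
          rw [SmallGroups.center_eq_bot (SmallGroups.not_isMulCommutative (by rw [hk]; norm_num)),
            Subgroup.mem_bot] at hz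
          exact congrArg Subtype.val hz
        have hle : Nat.card c.ker * 60 ≤ 120 := by
          have h2 := Subgroup.card_le_of_le (le_top : J ⊔ c.ker ≤ ⊤)
          have h3 : Nat.card J * Nat.card c.ker = Nat.card (J ⊔ c.ker : Subgroup G) := by
            have h4 := Subgroup.relIndex_mul_relIndex ⊥ c.ker (J ⊔ c.ker) bot_le le_sup_right
            rw [Subgroup.relIndex_bot_left, Subgroup.relIndex_bot_left, Subgroup.relIndex_sup_right]
              at h4
            rw [← h4, Subgroup.relIndex, ← Subgroup.card_mul_index (c.ker.subgroupOf J)]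
            have h5 : c.ker.subgroupOf J = ⊥ := Subgroup.subgroupOf_eq_bot.2 hdis.symm
            rw [h5, Subgroup.card_bot, one_mul, mul_comm]
          rw [← h3, Subgroup.card_top, ← hmul, hk] at h2
          omega
        have hpos : 0 < Nat.card c.ker := Nat.card_pos
        intro x
        refine ⟨1, orderOf_dvd_iff_pow_eq_one.1 ?_⟩
        refine orderOf_dvd_natCard x |>.trans ?_
        have : Nat.card c.ker = 1 ∨ Nat.card c.ker = 2 := by omega
        rcases this with h6 | h6 <;> rw [h6] <;> norm_num
      have hc' : Function.Injective c := (MonoidHom.ker_eq_bot_iff c).1 hc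
      let d : Perm (Fin 5) ≃* MulAut (alternatingGroup (Fin 5)) :=
        MulEquiv.ofBijective _ (Alt.conjNormal_bijective (by rw [Nat.card_fin]; norm_num)
          (by rw [Nat.card_fin]; norm_num))
      exact equiv_perm_of_inj ((d.symm.toMonoidHom.comp (MulAut.congr e).toMonoidHom).comp c)
        ((d.symm.injective.comp (MulAut.congr e).injective).comp hc')
        (by rw [card_perm_fin, ← hmul]; rfl)
  · rcases hJ2 with h1 | h1
    · right; right; left
      rw [hk, h1] at hmul
      refine equiv_alt_of_inj φ hφ (fun g => ?_) (by rw [hA, ← hmul])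
      rw [Subgroup.index_eq_one] at h1
      have : g ∈ J := h1 ▸ Subgroup.mem_top g
      exact this
    · right; right; right
      rw [hk, h1] at hmul
      exact equiv_perm_of_inj φ hφ (by rw [card_perm_fin, ← hmul]; rfl)

theorem seven {G : Type u} [Group G] [Finite G] (φ : G →* Perm (Fin 7))
    (hφ : Function.Injective φ) (hG : ¬ Group.IsSolvable G) (he : ∀ g, Perm.sign (φ g) = 1)
    (htr : ∀ x y, ∃ g, φ g x = y) :
    Nonempty (G ≃* alternatingGroup (Fin 7)) ∨ (IsSimpleGroup G ∧ Nat.card G = 168) := by
  let e : G ≃* φ.range := MonoidHom.ofInjective hφ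
  haveI : MulAction.IsPretransitive φ.range (Fin 7) := ⟨fun x y => by
    obtain ⟨g, hg⟩ := htr x y
    exact ⟨⟨φ g, g, rfl⟩, hg⟩⟩
  have hR : ¬ Group.IsSolvable φ.range := fun hs => hG (by
    haveI := hs
    exact Group.isSolvable_of_isSolvable_injective (f := e.toMonoidHom) e.injective)
  by_cases hA : alternatingGroup (Fin 7) ≤ φ.range
  · left
    exact equiv_alt_of_inj φ hφ he ((Subgroup.card_le_of_le hA).trans_eq
      (Nat.card_congr e.toEquiv).symm)
  · right
    obtain ⟨hc, hs⟩ := S0678.result (α := Fin 7) (by simp) φ.range hR hA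
    haveI := hs
    haveI : Nontrivial G := e.toEquiv.nontrivial
    exact ⟨IsSimpleGroup.isSimpleGroup_of_surjective (f := e.symm.toMonoidHom) e.symm.surjective,
      by rw [Nat.card_congr e.toEquiv, hc]⟩

end Cfsg.Agent.TwoAut.SubEight
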